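import Groth.Agent.FFDescLib.Submersive
import Groth.Agent.FFDescLib.EtaleGraph

/-!
# Morphisms to étale schemes descend along universally submersive morphisms
-/

set_option autoImplicit false
set_option linter.style.haveILetI false
set_option backward.isDefEq.respectTransparency false
set_option backward.isDefEq.respectTransparency.types false

universe u

open CategoryTheory CategoryTheory.Limits AlgebraicGeometry TopologicalSpace

namespace SubmDescLib

theorem surjective_of_univSubmersive {A B : Scheme.{u}} {h : A ⟶ B} (hh : SGA1.UnivSubmersive h) : Surjective h :=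
  ⟨(FFDescLib.isQuotientMap_of_univSubmersive hh).surjective⟩

/-- Morphisms to a formally unramified scheme agreeing after a surjective morphism agree. -/
theorem hom_ext {X' X Y S : Scheme.{u}} (h : X' ⟶ X) [Surjective h] (v : Y ⟶ S) [FormallyUnramified v]
    [LocallyOfFiniteType v] {s t : X ⟶ Y} (w : s ≫ v = t ≫ v) (e : h ≫ s = h ≫ t) : s = t := by
  let P := pullback (pullback.diagonal v) (pullback.lift s t w)
  haveI : IsOpenImmersion (pullback.snd (pullback.diagonal v) (pullback.lift s t w)) :=
    MorphismProperty.pullback_snd (P := @IsOpenImmersion) _ _ inferInstance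
  let l : X' ⟶ P := pullback.lift (h ≫ s) h (by
    apply pullback.hom_ext
    · simp
    · simp [e])
  haveI : Surjective (pullback.snd (pullback.diagonal v) (pullback.lift s t w)) := ⟨fun x => by
    obtain ⟨x', rfl⟩ := h.surjective x
    exact ⟨l x', by rw [← Scheme.Hom.comp_apply, pullback.lift_snd]⟩⟩
  haveI : IsIso (pullback.snd (pullback.diagonal v) (pullback.lift s t w)) :=
    (isIso_iff_isOpenImmersion_and_surjective _).2 ⟨inferInstance, inferInstance⟩
  rw [← cancel_epi (pullback.snd (pullback.diagonal v) (pullback.lift s t w))]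
  have c := pullback.condition (f := pullback.diagonal v) (g := pullback.lift s t w)
  have c₁ := congrArg (· ≫ pullback.fst v v) c
  have c₂ := congrArg (· ≫ pullback.snd v v) c
  simp only [Category.assoc, pullback.diagonal_fst, pullback.diagonal_snd, pullback.lift_fst,
    pullback.lift_snd, Category.comp_id] at c₁ c₂
  rw [← c₁, ← c₂]

theorem universallyInjective_of_isPullback {W A U X : Scheme.{u}} {a : W ⟶ A} {b : W ⟶ U} {h : A ⟶ X}
    {v : U ⟶ X} (sq : IsPullback a b h v) [Surjective h] [UniversallyInjective a] : UniversallyInjective v := by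
  rw [UniversallyInjective.iff_diagonal]
  refine ⟨fun t => ?_⟩
  obtain ⟨x', hx'⟩ := h.surjective (v (pullback.fst v v t))
  obtain ⟨z, hz₁, hz₂⟩ := Scheme.Pullback.exists_preimage_pullback (f := h) (g := pullback.fst v v ≫ v) x' t
    (by rw [hx', Scheme.Hom.comp_apply])
  let T := pullback h (pullback.fst v v ≫ v)
  let a₁ : T ⟶ W := sq.lift (pullback.fst _ _) (pullback.snd _ _ ≫ pullback.fst v v)
    (by rw [Category.assoc, pullback.condition])
  let a₂ : T ⟶ W := sq.lift (pullback.fst _ _) (pullback.snd _ _ ≫ pullback.snd v v)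
    (by rw [Category.assoc, ← pullback.condition (f := v) (g := v)]; exact pullback.condition)
  let l : T ⟶ pullback a a := pullback.lift a₁ a₂ (by simp [a₁, a₂])
  obtain ⟨w, hw⟩ := ((UniversallyInjective.iff_diagonal a).1 inferInstance).surj (l z)
  refine ⟨b w, ?_⟩
  have key : l ≫ pullback.map a a v v b b h sq.w sq.w = pullback.snd _ _ := by
    apply pullback.hom_ext <;> simp [l, a₁, a₂]
  have key2 : pullback.diagonal a ≫ pullback.map a a v v b b h sq.w sq.w = b ≫ pullback.diagonal v := by
    apply pullback.hom_ext <;> simp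
  rw [← Scheme.Hom.comp_apply, ← key2, Scheme.Hom.comp_apply, hw, ← Scheme.Hom.comp_apply, key, hz₂]

/-- A compatible section of an étale morphism over a universally submersive base change descends. -/
theorem exists_section {X' X P : Scheme.{u}} (h : X' ⟶ X) (hh : SGA1.UnivSubmersive h) (v : P ⟶ X) [Etale v]
    (σ : X' ⟶ P) (hσ : σ ≫ v = h) (e : pullback.fst h h ≫ σ = pullback.snd h h ≫ σ) :
    ∃ s : X ⟶ P, s ≫ v = 𝟙 X ∧ h ≫ s = σ := by
  haveI := surjective_of_univSubmersive hh
  let Y' := pullback h v
  let τ : X' ⟶ Y' := pullback.lift (𝟙 X') σ (by rw [Category.id_comp, hσ])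
  have hτ₁ : τ ≫ pullback.fst h v = 𝟙 X' := pullback.lift_fst _ _ _
  have hτ₂ : τ ≫ pullback.snd h v = σ := pullback.lift_snd _ _ _
  haveI : IsOpenImmersion τ := FFDescLib.isOpenImmersion_of_section (pullback.fst h v) τ hτ₁
  have hq : SGA1.UnivSubmersive (pullback.snd h v) := MorphismProperty.pullback_snd h v hh
  have hsat : (pullback.snd h v) ⁻¹' (Set.range σ) = Set.range τ := by
    refine Set.Subset.antisymm ?_ ?_
    · rintro z ⟨x, hx⟩
      obtain ⟨t, ht₁, ht₂⟩ := Scheme.Pullback.exists_preimage_pullback (f := pullback.snd h v) (g := σ) z x hx.symm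
      let a := pullback.fst (pullback.snd h v) σ
      let b := pullback.snd (pullback.snd h v) σ
      have hab : (a ≫ pullback.fst h v) ≫ h = b ≫ h := by
        rw [Category.assoc, pullback.condition (f := h) (g := v), ← Category.assoc]
        exact ((congrArg (· ≫ v) (pullback.condition (f := pullback.snd h v) (g := σ))).trans
          (Category.assoc _ _ _)).trans (congrArg (b ≫ ·) hσ)
      have hl := congrArg (pullback.lift (a ≫ pullback.fst h v) b hab ≫ ·) e
      simp only [pullback.lift_fst_assoc, pullback.lift_snd_assoc] at hl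
      have ha : a = (a ≫ pullback.fst h v) ≫ τ := by
        apply pullback.hom_ext
        · simp only [Category.assoc, hτ₁, Category.comp_id]
        · simp only [Category.assoc, hτ₂]
          rw [Category.assoc] at hl
          rw [hl, ← pullback.condition]
      exact ⟨(a ≫ pullback.fst h v) t, by rw [← Scheme.Hom.comp_apply, ← ha, ht₁]⟩
    · rintro _ ⟨x, rfl⟩
      exact ⟨x, by rw [← Scheme.Hom.comp_apply, hτ₂]⟩
  let U₀ : P.Opens := ⟨Set.range σ, by
    rw [← (FFDescLib.isQuotientMap_of_univSubmersive hq).isOpen_preimage, hsat]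
    exact τ.isOpenEmbedding.isOpen_range⟩
  let v₀ : U₀.toScheme ⟶ X := U₀.ι ≫ v
  have hτ₀ : Set.range σ ⊆ Set.range U₀.ι := by rw [Scheme.Opens.range_ι]; exact le_refl _
  let σ₀ : X' ⟶ U₀.toScheme := IsOpenImmersion.lift U₀.ι σ hτ₀
  have hσ₀ : σ₀ ≫ U₀.ι = σ := IsOpenImmersion.lift_fac _ _ _
  have sqτ : IsPullback τ σ₀ (pullback.snd h v) U₀.ι :=
    (IsOpenImmersion.isPullback _ τ U₀.ι (pullback.snd h v) (by rw [hσ₀, hτ₂]) (by
      rw [Scheme.Opens.opensRange_ι]; exact Opens.ext hsat)).flip
  have sq : IsPullback (𝟙 X') σ₀ h v₀ := by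
    have := sqτ.flip.paste_vert (IsPullback.of_hasPullback h v).flip
    rw [hτ₁] at this
    exact this.flip
  haveI : UniversallyInjective v₀ := universallyInjective_of_isPullback sq
  haveI : Surjective v₀ := ⟨fun x => by
    obtain ⟨x', rfl⟩ := h.surjective x
    exact ⟨σ₀ x', by rw [← Scheme.Hom.comp_apply, ← Category.assoc, hσ₀, hσ]⟩⟩
  haveI : IsIso v₀ := FFDescLib.isIso_of_etale_univInjective_surjective v₀
  refine ⟨inv v₀ ≫ U₀.ι, by rw [Category.assoc]; exact IsIso.inv_hom_id v₀, ?_⟩
  have : σ₀ = h ≫ inv v₀ := by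
    rw [IsIso.eq_comp_inv, ← Category.assoc, hσ₀, hσ]
  rw [← Category.assoc, ← this, hσ₀]

/-- Morphisms to étale schemes descend along universally submersive morphisms. -/
theorem exists_desc {X' X Y S : Scheme.{u}} (h : X' ⟶ X) (hh : SGA1.UnivSubmersive h) (v : Y ⟶ S) [Etale v]
    (pX : X ⟶ S) (y : X' ⟶ Y) (w : y ≫ v = h ≫ pX) (e : pullback.fst h h ≫ y = pullback.snd h h ≫ y) :
    ∃ s : X ⟶ Y, s ≫ v = pX ∧ h ≫ s = y := by
  obtain ⟨s, hs₁, hs₂⟩ := exists_section h hh (pullback.fst pX v) (pullback.lift h y w.symm)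
    (pullback.lift_fst _ _ _) (by
      apply pullback.hom_ext
      · simp [pullback.condition]
      · simp [e])
  refine ⟨s ≫ pullback.snd pX v, ?_, ?_⟩
  · rw [Category.assoc, ← pullback.condition, ← Category.assoc, hs₁, Category.id_comp]
  · rw [← Category.assoc, hs₂, pullback.lift_snd]

end SubmDescLib
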