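import Groth.Agent.SubmDescLib.Etale
import Groth.Agent.DescLib.QAff
import Groth.Agent.HenselLib.Local
import Mathlib.AlgebraicGeometry.AlgClosed.Basic

/-!
# Points over an algebraically closed closed point and sections over henselian local rings
-/

set_option autoImplicit false
set_option linter.style.haveILetI false
set_option backward.isDefEq.respectTransparency false
set_option backward.isDefEq.respectTransparency.types false

universe u

open CategoryTheory CategoryTheory.Limits AlgebraicGeometry TopologicalSpace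

namespace SubmDescLib

variable {K : Type u} [Field K] [IsAlgClosed K] {Y S : Scheme.{u}} (h : Y ⟶ S)
  (κ : Spec (CommRingCat.of K) ⟶ S) [IsClosedImmersion κ]

/-- Lifts of a closed point with algebraically closed residue field are determined by their image. -/
theorem kpoint_ext [LocallyOfFiniteType h] {z z' : Spec (CommRingCat.of K) ⟶ Y} (hz : z ≫ h = κ)
    (hz' : z' ≫ h = κ) (e : z (IsLocalRing.closedPoint K) = z' (IsLocalRing.closedPoint K)) : z = z' := by
  let a : Spec (CommRingCat.of K) ⟶ pullback h κ := pullback.lift z (𝟙 _) (by rw [hz, Category.id_comp])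
  let b : Spec (CommRingCat.of K) ⟶ pullback h κ := pullback.lift z' (𝟙 _) (by rw [hz', Category.id_comp])
  haveI : IsClosedImmersion (pullback.fst h κ) := MorphismProperty.pullback_fst h κ inferInstance
  have hab : a = b := ext_of_apply_closedPoint_eq (pullback.snd h κ) (pullback.lift_snd _ _ _)
    (pullback.lift_snd _ _ _) ((pullback.fst h κ).isClosedEmbedding.injective (by
      rw [← Scheme.Hom.comp_apply, ← Scheme.Hom.comp_apply, pullback.lift_fst, pullback.lift_fst]
      exact e))
  have := congrArg (· ≫ pullback.fst h κ) hab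
  simpa [a, b] using this

/-- Closed points over the closed point lift it. -/
theorem exists_kpoint [LocallyOfFiniteType h] (y : Y) (hy : h y ∈ Set.range κ) (hc : IsClosed ({y} : Set Y)) :
    ∃ z : Spec (CommRingCat.of K) ⟶ Y, z ≫ h = κ ∧ z (IsLocalRing.closedPoint K) = y := by
  obtain ⟨k, hk⟩ := hy
  obtain ⟨t, ht, -⟩ := Scheme.Pullback.exists_preimage_pullback (f := h) (g := κ) y k hk.symm
  haveI : IsClosedImmersion (pullback.fst h κ) := MorphismProperty.pullback_fst h κ inferInstance
  have htc : IsClosed ({t} : Set ↥(pullback h κ)) := by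
    have := hc.preimage (pullback.fst h κ).continuous
    rwa [show (pullback.fst h κ) ⁻¹' {y} = {t} from Set.eq_singleton_iff_unique_mem.2
      ⟨ht, fun s hs => (pullback.fst h κ).isClosedEmbedding.injective ((hs : _ = y).trans ht.symm)⟩] at this
  refine ⟨pointOfClosedPoint (pullback.snd h κ) t htc ≫ pullback.fst h κ, ?_, ?_⟩
  · rw [Category.assoc, pullback.condition, pointOfClosedPoint_comp_assoc]
  · rw [Scheme.Hom.comp_apply, pointOfClosedPoint_apply, ht]

omit [IsClosedImmersion κ] in
theorem eq_of_closedPoint {A : Type u} [CommRing A] [IsLocalRing A] (U : (Spec (CommRingCat.of A)).Opens)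
    (hU : IsLocalRing.closedPoint A ∈ U) : U = ⊤ :=
  top_le_iff.1 fun x _ => ((IsLocalRing.specializes_closedPoint x).mem_open U.2 hU : x ∈ U)

variable {L : Type u} [CommRing L] {k : Type u} [Field k] (π : L →+* k)

theorem closedPoint_map [IsLocalRing L] (hπ : Function.Surjective π) (s : ↥(Spec (CommRingCat.of k))) :
    Spec.map (CommRingCat.ofHom π) s = IsLocalRing.closedPoint L :=
  PrimeSpectrum.ext (by
    show Ideal.comap π s.asIdeal = IsLocalRing.maximalIdeal L
    have hs : s.asIdeal = ⊥ := (Ideal.eq_bot_or_top _).resolve_right s.isPrime.ne_top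
    rw [hs, ← RingHom.ker_eq_comap_bot]
    exact IsLocalRing.eq_maximalIdeal (RingHom.ker_isMaximal_of_surjective _ hπ))

/-- Two morphisms from a local scheme to an unramified scheme agreeing at the closed point are equal. -/
theorem local_hom_ext [IsLocalRing L] (hπ : Function.Surjective π) {Z T : Scheme.{u}} (v : Z ⟶ T)
    [FormallyUnramified v] [LocallyOfFiniteType v] {σ σ' : Spec (CommRingCat.of L) ⟶ Z} (w : σ ≫ v = σ' ≫ v)
    (e : Spec.map (CommRingCat.ofHom π) ≫ σ = Spec.map (CommRingCat.ofHom π) ≫ σ') : σ = σ' := by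
  let c := Spec.map (CommRingCat.ofHom π)
  haveI : IsOpenImmersion (pullback.snd (pullback.diagonal v) (pullback.lift σ σ' w)) :=
    MorphismProperty.pullback_snd (P := @IsOpenImmersion) _ _ inferInstance
  let ι := pullback.snd (pullback.diagonal v) (pullback.lift σ σ' w)
  let l : Spec (CommRingCat.of k) ⟶ pullback (pullback.diagonal v) (pullback.lift σ σ' w) :=
    pullback.lift (c ≫ σ) c (by
      apply pullback.hom_ext
      · simp
      · simp [e, c])
  haveI : Surjective ι := ⟨fun x => by
    have hcl : IsLocalRing.closedPoint L ∈ ι.opensRange := by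
      obtain ⟨s⟩ : Nonempty ↥(Spec (CommRingCat.of k)) := inferInstance
      exact ⟨l s, by rw [← Scheme.Hom.comp_apply, pullback.lift_snd]; exact closedPoint_map π hπ s⟩
    exact (eq_of_closedPoint ι.opensRange hcl).ge (Opens.mem_top x)⟩
  haveI : IsIso ι := (isIso_iff_isOpenImmersion_and_surjective _).2 ⟨inferInstance, inferInstance⟩
  rw [← cancel_epi ι]
  have c' := pullback.condition (f := pullback.diagonal v) (g := pullback.lift σ σ' w)
  have c₁ := congrArg (· ≫ pullback.fst v v) c'
  have c₂ := congrArg (· ≫ pullback.snd v v) c'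
  simp only [Category.assoc, pullback.diagonal_fst, pullback.diagonal_snd, pullback.lift_fst,
    pullback.lift_snd, Category.comp_id] at c₁ c₂
  exact c₁.symm.trans c₂

/-- Residual points of étale schemes over a henselian local ring lift to sections. -/
theorem exists_hensel_section [HenselianLocalRing L] (hπ : Function.Surjective π) {Z : Scheme.{u}}
    (f : Z ⟶ Spec (CommRingCat.of L)) [Etale f] (w : Spec (CommRingCat.of k) ⟶ Z)
    (hw : w ≫ f = Spec.map (CommRingCat.ofHom π)) :
    ∃ σ : Spec (CommRingCat.of L) ⟶ Z, σ ≫ f = 𝟙 _ ∧ Spec.map (CommRingCat.ofHom π) ≫ σ = w := by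
  obtain ⟨U, hU, hzU, -⟩ := exists_isAffineOpen_mem_and_subset (X := Z) (x := w (IsLocalRing.closedPoint k))
    (U := ⊤) trivial
  have hwU : Set.range w ⊆ Set.range U.ι := by
    rintro _ ⟨s, rfl⟩
    rw [Scheme.Opens.range_ι, Subsingleton.elim s (IsLocalRing.closedPoint k)]
    exact hzU
  let A := Γ(Z, U)
  let j : Spec A ⟶ Z := hU.fromSpec
  obtain ⟨θ, hθ⟩ : ∃ θ : A →+* k, Spec.map (CommRingCat.ofHom θ) ≫ j = w := by
    let w₀ := IsOpenImmersion.lift U.ι w hwU ≫ hU.isoSpec.hom
    refine ⟨(Spec.preimage w₀).hom, ?_⟩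
    rw [CommRingCat.ofHom_hom, Spec.map_preimage, Category.assoc,
      show j = hU.fromSpec from rfl, hU.isoSpec_hom_fromSpec, IsOpenImmersion.lift_fac]
  let φ := Spec.preimage (j ≫ f)
  letI : Algebra L A := φ.hom.toAlgebra
  haveI : Etale (Spec.map φ) := by rw [Spec.map_preimage]; infer_instance
  haveI : Algebra.Etale L A := RingHom.etale_algebraMap.1 ((HasRingHomProperty.Spec_iff (P := @Etale)).1 ‹_›)
  have hθφ : θ.comp φ.hom = π := by
    have h1 : Spec.map (φ ≫ CommRingCat.ofHom θ) = Spec.map (CommRingCat.ofHom π) := by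
      rw [Spec.map_comp, Spec.map_preimage, ← Category.assoc, hθ, hw]
    exact congrArg CommRingCat.Hom.hom (Spec.map_injective h1)
  let e := (Ideal.quotEquivOfEq (IsLocalRing.eq_maximalIdeal (RingHom.ker_isMaximal_of_surjective _ hπ))).symm.trans
    (RingHom.quotientKerEquivOfSurjective hπ)
  have he : ∀ x, e (IsLocalRing.residue L x) = π x := fun x => rfl
  obtain ⟨f₀, hf₀, -⟩ := HenselLib.existsUnique_algHom (R := L) (S := L) (B := A)
    (e.symm.toRingHom.comp θ) (RingHom.ext fun x => by
      apply e.injective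
      change e (e.symm (θ (φ.hom x))) = e (IsLocalRing.residue L x)
      rw [RingEquiv.apply_symm_apply]
      exact (RingHom.congr_fun hθφ x).trans (he x).symm)
  refine ⟨Spec.map (CommRingCat.ofHom f₀.toRingHom) ≫ j, ?_, ?_⟩
  · rw [Category.assoc, ← Spec.map_preimage (j ≫ f), ← Spec.map_comp,
      show φ ≫ CommRingCat.ofHom f₀.toRingHom = 𝟙 _ from CommRingCat.hom_ext (RingHom.ext fun x => f₀.commutes x),
      Spec.map_id]
  · rw [← Category.assoc, ← Spec.map_comp, ← CommRingCat.ofHom_comp]
    rw [show π.comp f₀.toRingHom = θ from RingHom.ext fun a => by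
      have := congrArg e (hf₀ a)
      rw [he] at this
      exact this.trans (e.apply_symm_apply (θ a))]
    exact hθ

end SubmDescLib
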