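import Groth.Agent.SubmDescLib.QAt
import Mathlib.AlgebraicGeometry.RelativeGluing

/-!
# Étale quotients glue along open covers of the base
-/

set_option autoImplicit false
set_option linter.style.haveILetI false
set_option backward.isDefEq.respectTransparency false
set_option backward.isDefEq.respectTransparency.types false

universe u

open CategoryTheory CategoryTheory.Limits AlgebraicGeometry TopologicalSpace

namespace SubmDescLib

open Desc DescLib

variable {X S : Scheme.{u}} {p : X ⟶ S} (D : SchDD p)

/-- Opens over which `D` has an étale quotient. -/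
abbrev GoodOpen : Type u := {W : S.Opens // HasEt D W.ι}

variable {D} (h : ∀ x : S, ∃ W : S.Opens, x ∈ W ∧ HasEt D W.ι)

theorem GoodOpen.of_le {W W' : S.Opens} (hW : HasEt D W.ι) (hle : W' ≤ W) : HasEt D W'.ι :=
  hW.comp (S.homOfLE hle) _ (Scheme.homOfLE_ι _ _)

/-- The cover of the base by opens over which `D` has an étale quotient. -/
noncomputable def goodCover : S.OpenCover where
  I₀ := GoodOpen D
  X W := W.1
  f W := W.1.ι
  mem₀ := by
    rw [Scheme.presieve₀_mem_precoverage_iff]
    refine ⟨fun x ↦ ?_, inferInstance⟩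
    obtain ⟨W, hx, hW⟩ := h x
    exact ⟨⟨W, hW⟩, by simpa using hx⟩

instance : Preorder (goodCover h).I₀ := inferInstanceAs <| Preorder (GoodOpen D)

noncomputable instance : Scheme.Cover.LocallyDirected (goodCover h) :=
  .ofIsBasisOpensRange (by intros; simp [goodCover]) <| by
    rw [TopologicalSpace.Opens.isBasis_iff_nbhd]
    intro U x hx
    obtain ⟨W, hxW, hW⟩ := h x
    refine ⟨W ⊓ U, ⟨⟨W ⊓ U, GoodOpen.of_le hW inf_le_left⟩, ?_⟩, ⟨hxW, hx⟩, inf_le_right⟩
    simp [goodCover]

instance : Small.{u} (goodCover h).I₀ := inferInstanceAs (Small.{u} (GoodOpen D))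

instance : Quiver.IsThin (goodCover h).I₀ := inferInstanceAs (Quiver.IsThin (GoodOpen D))

include h in
theorem hasEt_of_open_cover (hp : SGA1.UnivSubmersive p) : HasEt D (𝟙 S) := by
  choose Uo vo qo hvo hqo using fun W : GoodOpen D => W.2
  haveI hsurj : ∀ W, Surjective (qo W) := fun W => surjective_of_univSubmersive ((hqo W).univSubmersive hp)
  let ho : ∀ {a b : GoodOpen D}, a ≤ b → (a.1.toScheme ⟶ b.1.toScheme) := fun hab => S.homOfLE hab
  have hoι : ∀ {a b : GoodOpen D} (hab : a ≤ b), ho hab ≫ b.1.ι = a.1.ι := fun hab => Scheme.homOfLE_ι _ _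
  let lP : ∀ {a b : GoodOpen D}, a ≤ b → (Pt D a.1.ι ⟶ Pt D b.1.ι) := fun {a b} hab =>
    pullback.lift (f := D.obj.hom ≫ p) (g := b.1.ι) (pullback.fst _ _) (pullback.snd _ _ ≫ ho hab)
      (by rw [Category.assoc, hoι]; exact pullback.condition)
  have hlP₁ : ∀ {a b : GoodOpen D} (hab : a ≤ b), lP hab ≫ pullback.fst _ _ = pullback.fst _ _ :=
    fun hab => pullback.lift_fst _ _ _
  have hlP₂ : ∀ {a b : GoodOpen D} (hab : a ≤ b), lP hab ≫ pullback.snd _ _ = pullback.snd _ _ ≫ ho hab :=
    fun hab => pullback.lift_snd _ _ _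
  have ht : ∀ {a b : GoodOpen D} (hab : a ≤ b), ∃ t : Uo a ⟶ Uo b,
      qo a ≫ t = lP hab ≫ qo b ∧ IsPullback (vo a) t (ho hab) (vo b) := by
    intro a b hab
    haveI := hvo a; haveI := hvo b
    obtain ⟨q₂, hq₂, e⟩ := (hqo b).exists_baseChange (ho hab) a.1.ι (hoι hab)
      (IsPullback.of_hasPullback (vo b) (ho hab))
    obtain ⟨i, hi, hi'⟩ := (hqo a).exists_iso hp hq₂
    refine ⟨i.hom ≫ pullback.fst _ _, by rw [← Category.assoc, hi', e], ?_⟩
    exact (IsPullback.of_hasPullback (vo b) (ho hab)).flip.of_iso i.symm (Iso.refl _) (Iso.refl _) (Iso.refl _)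
      (by simp [← hi]) (by simp) (by simp) (by simp)
  choose t ht₁ ht₂ using @ht
  have hext : ∀ {a b : GoodOpen D} {f f' : Uo a ⟶ Uo b}, f ≫ vo b = f' ≫ vo b → qo a ≫ f = qo a ≫ f' → f = f' := by
    intro a b f f' w e
    haveI := hvo b
    exact SubmDescLib.hom_ext (qo a) (vo b) w e
  let F : (goodCover h).I₀ ⥤ Scheme.{u} :=
    { obj := Uo
      map := fun {a b} f => t (leOfHom f : a ≤ b)
      map_id := fun a => by
        refine hext ?_ ?_
        · rw [← (ht₂ _).w, Category.id_comp]; simp [ho]
        · rw [ht₁, Category.comp_id]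
          have : lP (le_refl a) = 𝟙 _ := by
            apply pullback.hom_ext
            · rw [hlP₁, Category.id_comp]
            · rw [hlP₂, Category.id_comp]; simp [ho]
          exact this ▸ Category.id_comp _
      map_comp := fun {a b c} f f' => by
        refine hext ?_ ?_
        · rw [← (ht₂ _).w, Category.assoc, ← (ht₂ _).w, ← Category.assoc, ← (ht₂ _).w, Category.assoc]
          congr 1
          simp [ho]
        · rw [ht₁, ← Category.assoc, ht₁, Category.assoc, ht₁, ← Category.assoc]
          congr 1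
          apply pullback.hom_ext
          · rw [hlP₁, Category.assoc, hlP₁, hlP₁]
          · rw [hlP₂, Category.assoc, hlP₂, reassoc_of% (hlP₂ (leOfHom f : a ≤ b))]
            simp [ho] }
  let d : (goodCover h).RelativeGluingData :=
    { functor := F
      natTrans := { app := vo, naturality := fun a b f => (ht₂ (leOfHom f : a ≤ b)).w.symm }
      equifibered := fun {a b} f => (ht₂ (leOfHom f : a ≤ b)).flip }
  haveI i1 : (d.functor ⋙ Scheme.forget).IsLocallyDirected :=
    Scheme.Cover.RelativeGluingData.instIsLocallyDirectedI₀CompFunctorForgetOfIsThin d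
  haveI i2 : ∀ {i j : (goodCover h).I₀} (f : i ⟶ j), IsOpenImmersion (d.functor.map f) := fun f =>
    Scheme.Cover.RelativeGluingData.instIsOpenImmersionMapI₀Functor d f
  have hsq : ∀ a : GoodOpen D, IsPullback (vo a) (colimit.ι d.functor a) a.1.ι d.toBase := fun a =>
    d.isPullback_natTrans_ι_toBase a
  let ιU : ∀ a : GoodOpen D, Uo a ⟶ d.glued := colimit.ι d.functor
  have hιU : ∀ {a b : GoodOpen D} (hab : a ≤ b), t hab ≫ ιU b = ιU a := fun hab => colimit.w d.functor (homOfLE hab)
  haveI het : Etale d.toBase :=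
    IsZariskiLocalAtTarget.of_openCover (P := @Etale) (goodCover h) fun (a : GoodOpen D) => by
      change Etale (pullback.snd d.toBase a.1.ι)
      haveI := hvo a
      rw [← (hsq a).flip.isoPullback_inv_snd]
      infer_instance
  let π : Pt D (𝟙 S) ⟶ S := pullback.snd _ _
  let 𝒱 := (goodCover h).pullback₁ π
  let k : ∀ a : GoodOpen D, pullback π a.1.ι ⟶ Pt D a.1.ι := fun a =>
    pullback.lift (f := D.obj.hom ≫ p) (g := a.1.ι) (pullback.fst π a.1.ι ≫ pullback.fst _ _) (pullback.snd π a.1.ι)
      (by rw [Category.assoc, pullback.condition, Category.comp_id, pullback.condition])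
  let q : Pt D (𝟙 S) ⟶ d.glued :=
    (Scheme.OpenCover.glueMorphismsOfLocallyDirected (X := Pt D (𝟙 S)) 𝒱 (fun a => k a ≫ qo a ≫ ιU a)
      fun {a b : GoodOpen D} f => by
        have hab : a ≤ b := leOfHom f
        have h₁ : Scheme.Cover.trans 𝒱 f ≫ pullback.fst π b.1.ι = pullback.fst π a.1.ι := Scheme.Cover.trans_map 𝒱 f
        have h₂ : Scheme.Cover.trans 𝒱 f ≫ pullback.snd π b.1.ι = pullback.snd π a.1.ι ≫ ho hab := by
          rw [← cancel_mono b.1.ι, Category.assoc, ← pullback.condition, reassoc_of% h₁, Category.assoc, hoι,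
            pullback.condition]
        rw [← hιU hab, reassoc_of% (ht₁ hab)]
        simp only [← Category.assoc]
        congr 2
        apply pullback.hom_ext
        · simp only [k, Category.assoc, pullback.lift_fst, hlP₁, reassoc_of% h₁]
        · simp only [k, Category.assoc, pullback.lift_snd, hlP₂]
          rw [h₂, pullback.lift_snd_assoc])
  have hqι : ∀ a : GoodOpen D, pullback.fst π a.1.ι ≫ q = k a ≫ qo a ≫ ιU a := fun a =>
    Scheme.OpenCover.map_glueMorphismsOfLocallyDirected 𝒱 _ _ a
  have hqw : q ≫ d.toBase = π := Scheme.Cover.hom_ext 𝒱 _ _ fun (a : GoodOpen D) => by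
    change pullback.fst π a.1.ι ≫ q ≫ _ = pullback.fst π a.1.ι ≫ π
    rw [reassoc_of% (hqι a)]
    change k a ≫ qo a ≫ colimit.ι d.functor a ≫ d.toBase = _
    rw [← (hsq a).w, ← Category.assoc (qo a), (hqo a).w, pullback.condition]
    simp [k]
  refine ⟨d.glued, d.toBase, q, het, hqw, fun T x y e r => ?_, ?_⟩
  · refine Scheme.Cover.hom_ext (((goodCover h).pullback₁ π).pullback₁ x) _ _ fun (a : GoodOpen D) => ?_
    let c := pullback.fst x (pullback.fst π a.1.ι)
    change c ≫ x ≫ q = c ≫ y ≫ q
    let x' : pullback x (pullback.fst π a.1.ι) ⟶ pullback π a.1.ι := pullback.snd _ _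
    let y' : pullback x (pullback.fst π a.1.ι) ⟶ pullback π a.1.ι :=
      pullback.lift (c ≫ y) (x' ≫ pullback.snd π a.1.ι) (by
        rw [Category.assoc, ← e, ← Category.assoc, pullback.condition, Category.assoc, pullback.condition,
          Category.assoc])
    have hx' : c ≫ x = x' ≫ pullback.fst π a.1.ι := pullback.condition
    have hy' : c ≫ y = y' ≫ pullback.fst π a.1.ι := (pullback.lift_fst _ _ _).symm
    rw [reassoc_of% hx', reassoc_of% hy', hqι]
    simp only [← Category.assoc]
    congr 1
    simp only [Category.assoc]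
    simp only [← Category.assoc]
    refine (hqo a).rel (x' ≫ k a) (y' ≫ k a) ?_ ?_
    · simp [k, y']
    · have := r.comp c
      simp only [← Category.assoc] at this
      rw [hx', hy'] at this
      simpa [k] using this
  · rw [Category.comp_id]
    let m : Pt D (𝟙 S) ⟶ pullback d.toBase p := pullback.lift q (pullback.fst _ _ ≫ D.obj.hom)
      (by rw [hqw, Category.assoc, pullback.condition, Category.comp_id])
    have hm₁ : m ≫ pullback.fst _ _ = q := pullback.lift_fst _ _ _
    have hm₂ : m ≫ pullback.snd _ _ = pullback.fst _ _ ≫ D.obj.hom := pullback.lift_snd _ _ _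
    haveI : IsIso m := by
      let η : pullback d.toBase p ⟶ S := pullback.fst _ _ ≫ d.toBase
      refine IsZariskiLocalAtTarget.of_openCover (P := MorphismProperty.isomorphisms Scheme)
        ((goodCover h).pullback₁ η) fun (a : GoodOpen D) => ?_
      change IsIso (pullback.snd m (pullback.fst η a.1.ι))
      haveI : IsIso (k a) := by
        refine ⟨pullback.lift (f := π) (g := a.1.ι)
          (pullback.lift (f := D.obj.hom ≫ p) (g := 𝟙 S) (pullback.fst _ _) (pullback.snd _ _ ≫ a.1.ι)
            (by rw [Category.comp_id]; exact pullback.condition))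
          (pullback.snd _ _) (pullback.lift_snd _ _ _), ?_, ?_⟩
        · apply pullback.hom_ext
          · apply pullback.hom_ext
            · simp [k]
            · simp [k]
              exact pullback.condition.symm
          · simp [k]
        · apply pullback.hom_ext <;> simp [k]
      have hb : IsPullback (qo a) (pullback.fst _ _ ≫ D.obj.hom) (ιU a ≫ d.toBase) p := by
        have := (hqo a).isPullback
        rwa [(hsq a).w] at this
      have big : IsPullback (k a ≫ qo a) (pullback.fst π a.1.ι ≫ m) (ιU a) (pullback.fst d.toBase p) := by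
        refine IsPullback.of_bot ?_ ?_ (IsPullback.of_hasPullback d.toBase p)
        · rw [Category.assoc, hm₂, ← Category.assoc]
          refine hb.of_iso (asIso (k a)).symm (Iso.refl _) (Iso.refl _) (Iso.refl _) (by simp) ?_ (by simp) (by simp)
          simp [k]
        · rw [Category.assoc, Category.assoc, hm₁, hqι]
      have sqa : IsPullback (pullback.snd π a.1.ι) (pullback.fst π a.1.ι ≫ m) a.1.ι η := by
        have := big.paste_horiz (hsq a)
        rwa [Category.assoc, (hqo a).w, show k a ≫ pullback.snd _ _ = pullback.snd π a.1.ι from pullback.lift_snd _ _ _] at this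
      let n : pullback π a.1.ι ≅ pullback η a.1.ι := sqa.flip.isoPullback
      have hn : IsPullback (pullback.fst π a.1.ι) n.hom m (pullback.fst η a.1.ι) := by
        refine IsPullback.of_bot ?_ (sqa.flip.isoPullback_hom_fst).symm (IsPullback.of_hasPullback η a.1.ι)
        rw [sqa.flip.isoPullback_hom_snd, ← Category.assoc, hm₁, hqw]
        exact IsPullback.of_hasPullback π a.1.ι
      rw [← hn.isoPullback_inv_snd]
      infer_instance
    exact (IsPullback.of_hasPullback d.toBase p).of_iso (asIso m).symm (Iso.refl _) (Iso.refl _) (Iso.refl _)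
      (by simp [← hm₁]) (by simp [← hm₂]) (by simp) (by simp)

end SubmDescLib
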