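import Groth.Agent.SubmDescLib.Etale
import Groth.Agent.DescLib.Refine

/-!
# Étale quotients are detected after a universally submersive refinement
-/

set_option autoImplicit false
set_option linter.style.haveILetI false
set_option backward.isDefEq.respectTransparency false
set_option backward.isDefEq.respectTransparency.types false

universe u

open CategoryTheory CategoryTheory.Limits AlgebraicGeometry

namespace SubmDescLib

open Desc DescLib

/-- An étale quotient after a universally submersive refinement gives an étale quotient. -/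
theorem exists_isQuot_of_refine_univSubmersive {X S : Scheme.{u}} {p : X ⟶ S} (D : SchDD p) [Etale D.obj.hom]
    {X' : Scheme.{u}} (p' : X' ⟶ S) (r : X' ⟶ X) (w : r ≫ p = p' ≫ 𝟙 S) (hp' : SGA1.UnivSubmersive p')
    {U : Scheme.{u}} (g : U ⟶ S) [Etale g] {q' : (pullDD D p' r (𝟙 S) w).obj.left ⟶ U}
    (hq : IsQuot (pullDD D p' r (𝟙 S) w) (𝟙 _) g q') : ∃ q, IsQuot D (𝟙 _) g q := by
  let D' := pullDD D p' r (𝟙 S) w
  let π' : D'.obj.left ⟶ X' := D'.obj.hom
  let m : D.obj.left ⟶ S := D.obj.hom ≫ p
  have hsurj : ∀ {T : Scheme.{u}} (a : T ⟶ S), Surjective (pullback.fst a p') := fun a =>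
    surjective_of_univSubmersive (MorphismProperty.pullback_fst a p' hp')
  have hqw : q' ≫ g = π' ≫ p' := by simpa using hq.w
  have hjm : ∀ {T : Scheme.{u}} (a : T ⟶ D.obj.left), (a ≫ D.obj.hom) ≫ p = a ≫ m := fun a => Category.assoc _ _ _
  have hmk : ∀ {T : Scheme.{u}} (a : T ⟶ D.obj.left) (x' : T ⟶ X'), a ≫ m = x' ≫ p' →
      ∃ y : T ⟶ D'.obj.left, y ≫ π' = x' ∧ Rel D a (y ≫ pullFst) := by
    intro T a x' h
    obtain ⟨b, hb, hr⟩ := exists_rel a (x' ≫ r)
      (by rw [hjm, Category.assoc x', w, Category.comp_id, h])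
    refine ⟨pullback.lift (f := D.obj.hom) (g := r) b x' hb, pullback.lift_snd _ _ _, ?_⟩
    rwa [show pullback.lift (f := D.obj.hom) (g := r) b x' hb ≫ pullFst (w := w) = b from pullback.lift_fst _ _ _]
  have hrel' : ∀ {T : Scheme.{u}} (y₁ y₂ : T ⟶ D'.obj.left),
      Rel D (y₁ ≫ pullFst) (y₂ ≫ pullFst) → y₁ ≫ q' = y₂ ≫ q' := by
    intro T y₁ y₂ hr
    refine hq.rel y₁ y₂ ?_
    rw [Category.comp_id, Category.comp_id]
    exact (rel_pull _ _).2 ⟨by rw [← cancel_mono (𝟙 S), ← hom_p_eq, ← hom_p_eq]; exact hr.1, hr⟩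
  obtain ⟨y₀, hy₀, hy₀r⟩ := hmk (pullback.fst m p') (pullback.snd m p') pullback.condition
  obtain ⟨q, hqm, hqfac⟩ := SubmDescLib.exists_desc (pullback.fst m p') (MorphismProperty.pullback_fst m p' hp') g m
    (y₀ ≫ q') (by rw [Category.assoc, hqw, reassoc_of% hy₀, pullback.condition]) (by
      rw [← Category.assoc, ← Category.assoc]
      refine hrel' _ _ ?_
      have h₁ := hy₀r.comp (pullback.fst (pullback.fst m p') (pullback.fst m p'))
      have h₂ := hy₀r.comp (pullback.snd (pullback.fst m p') (pullback.fst m p'))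
      rw [pullback.condition] at h₁
      simp only [← Category.assoc] at h₁ h₂
      exact h₁.symm.trans h₂)
  have key : ∀ {T : Scheme.{u}} (a : T ⟶ D.obj.left) (y : T ⟶ D'.obj.left),
      Rel D a (y ≫ pullFst) → a ≫ q = y ≫ q' := by
    intro T a y hr
    have h : a ≫ m = (y ≫ π') ≫ p' := by
      have := hr.1
      rwa [hom_p_eq, Category.comp_id, hjm] at this
    let z := pullback.lift (f := m) (g := p') a (y ≫ π') h
    calc a ≫ q = z ≫ pullback.fst m p' ≫ q := by rw [pullback.lift_fst_assoc]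
      _ = (z ≫ y₀) ≫ q' := by rw [hqfac, Category.assoc]
      _ = y ≫ q' := hrel' _ _ (by
        have h₁ := hy₀r.comp z
        simp only [← Category.assoc] at h₁
        rw [show z ≫ pullback.fst m p' = a from pullback.lift_fst _ _ _] at h₁
        exact h₁.symm.trans hr)
  have uniq : ∀ {T : Scheme.{u}} (a b : T ⟶ D.obj.left), a ≫ q = b ≫ q →
      a ≫ D.obj.hom = b ≫ D.obj.hom → a = b := by
    intro T a b e e'
    have em : a ≫ m = b ≫ m := by rw [← hqm, ← Category.assoc, e, Category.assoc]
    haveI := hsurj (a ≫ m)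
    let t := pullback.fst (a ≫ m) p'
    refine SubmDescLib.hom_ext t D.obj.hom e' ?_
    obtain ⟨ya, hya, hra⟩ := hmk (t ≫ a) (pullback.snd (a ≫ m) p')
      (by rw [Category.assoc]; exact pullback.condition)
    obtain ⟨yb, hyb, hrb⟩ := hmk (t ≫ b) (pullback.snd (a ≫ m) p')
      (by rw [Category.assoc, ← em]; exact pullback.condition)
    have hyy : ya = yb := hq.hom_ext (by rw [← key _ _ hra, ← key _ _ hrb, Category.assoc, e, Category.assoc])
      (by rw [Category.comp_id, Category.comp_id]; exact hya.trans hyb.symm)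
    subst hyy
    exact (hra.trans hrb.symm).eq (by rw [Category.assoc, e', Category.assoc])
  refine ⟨q, fun T a b hr => ?_, fun T a c _ => ⟨c, Category.comp_id c⟩, ?_⟩
  · rw [Category.comp_id, Category.comp_id] at hr
    have em : a ≫ m = b ≫ m := by rw [← hjm, ← hjm]; exact hr.1
    haveI := hsurj (a ≫ m)
    let t := pullback.fst (a ≫ m) p'
    refine SubmDescLib.hom_ext t g (by simp only [Category.assoc, hqm]; exact em) ?_
    obtain ⟨ya, -, hra⟩ := hmk (t ≫ a) (pullback.snd (a ≫ m) p') (by rw [Category.assoc]; exact pullback.condition)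
    obtain ⟨yb, -, hrb⟩ := hmk (t ≫ b) (pullback.snd (a ≫ m) p')
      (by rw [Category.assoc, ← em]; exact pullback.condition)
    exact (Category.assoc _ _ _).symm.trans ((key _ _ hra).trans
      ((hrel' _ _ (hra.symm.trans ((hr.comp t).trans hrb))).trans ((key _ _ hrb).symm.trans (Category.assoc _ _ _))))
  · rw [Category.id_comp]
    have hex : ∀ c : PullbackCone g p, ∃ a : c.pt ⟶ D.obj.left, a ≫ q = c.fst ∧ a ≫ D.obj.hom = c.snd := by
      intro c
      haveI := hsurj (c.fst ≫ g)
      let t := pullback.fst (c.fst ≫ g) p'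
      let x' := pullback.snd (c.fst ≫ g) p'
      let y := hq.isPullback.lift (t ≫ c.fst) x' (by rw [Category.assoc]; exact pullback.condition)
      have hy₁ : y ≫ q' = t ≫ c.fst := hq.isPullback.lift_fst _ _ _
      have hy₂ : y ≫ π' = x' := by
        have := hq.isPullback.lift_snd (t ≫ c.fst) x' (by rw [Category.assoc]; exact pullback.condition)
        exact (congrArg (y ≫ ·) (Category.id_comp D'.obj.hom)).symm.trans this
      have hyp : ((y ≫ pullFst) ≫ D.obj.hom) ≫ p = (t ≫ c.snd) ≫ p := by
        rw [hom_p_eq, hy₂, ← pullback.condition, Category.comp_id, Category.assoc t, ← c.condition]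
      obtain ⟨b, hb, hbr⟩ := exists_rel (y ≫ pullFst) (t ≫ c.snd) hyp
      have hbq : b ≫ q = t ≫ c.fst := (key b y hbr.symm).trans hy₁
      obtain ⟨a, ha₁, ha₂⟩ := SubmDescLib.exists_desc t (MorphismProperty.pullback_fst _ p' hp') D.obj.hom c.snd b hb
        (uniq _ _ (by rw [Category.assoc, Category.assoc, hbq, ← Category.assoc, pullback.condition, Category.assoc])
          (by rw [Category.assoc, Category.assoc, hb, ← Category.assoc, pullback.condition, Category.assoc]))
      refine ⟨a, SubmDescLib.hom_ext t g ?_ (by rw [reassoc_of% ha₂, hbq]), ha₁⟩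
      rw [Category.assoc, hqm, ← Category.assoc, ha₁, c.condition]
    refine ⟨⟨hqm⟩, ⟨PullbackCone.isLimitAux' _ fun c => ⟨(hex c).choose, (hex c).choose_spec.1,
      (hex c).choose_spec.2, fun {a'} h₁ h₂ => uniq a' _ ?_ ?_⟩⟩⟩
    · exact h₁.trans (hex c).choose_spec.1.symm
    · exact h₂.trans (hex c).choose_spec.2.symm

end SubmDescLib
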