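import Groth.Agent.SubmDescLib.FiniteLocal
import Groth.Agent.SubmDescLib.Refine
import Groth.Agent.SubmDescLib.GlueOpen

/-!
# Effective étale descent from complete local bases
-/

set_option autoImplicit false
set_option linter.style.haveILetI false
set_option backward.isDefEq.respectTransparency false
set_option backward.isDefEq.respectTransparency.types false

universe u

open CategoryTheory CategoryTheory.Limits AlgebraicGeometry TopologicalSpace

namespace SubmDescLib

open Desc DescLib

/-- Over a complete local base an étale datum has a quotient as soon as the covering has a finite surjective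
refinement. -/
theorem exists_isQuot_of_finite_refinement {B : Type u} [CommRing B] [IsNoetherianRing B] [IsLocalRing B]
    [IsAdicComplete (IsLocalRing.maximalIdeal B) B] [IsAlgClosed (IsLocalRing.ResidueField B)]
    {X : Scheme.{u}} {g : X ⟶ Spec (CommRingCat.of B)} (D : SchDD g) [QuasiCompact D.obj.hom]
    [IsSeparated D.obj.hom] [Etale D.obj.hom] {X' : Scheme.{u}} (r : X' ⟶ X) [IsFinite (r ≫ g)]
    [Surjective (r ≫ g)] :
    ∃ (U : Scheme.{u}) (v : U ⟶ Spec (CommRingCat.of B)) (q : D.obj.left ⟶ U),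
      Etale v ∧ IsQuot D (𝟙 _) v q := by
  have w : r ≫ g = (r ≫ g) ≫ 𝟙 _ := (Category.comp_id _).symm
  let D' := pullDD D (r ≫ g) r (𝟙 _) w
  haveI : Etale D'.obj.hom := inferInstanceAs (Etale (pullback.snd D.obj.hom r))
  haveI : QuasiCompact D'.obj.hom := inferInstanceAs (QuasiCompact (pullback.snd D.obj.hom r))
  haveI : IsSeparated D'.obj.hom := inferInstanceAs (IsSeparated (pullback.snd D.obj.hom r))
  obtain ⟨U, v, q', hv, hq'⟩ := exists_isQuot_complete B (r ≫ g) D'
  haveI := hv
  obtain ⟨q, hq⟩ := exists_isQuot_of_refine_univSubmersive D (r ≫ g) r w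
    (univSubmersive_of_universallyClosed_surjective _) v hq'
  exact ⟨U, v, q, hv, hq⟩

/-- Over a locally Noetherian base, effectivity of étale descent data follows from the case of complete local
bases with algebraically closed residue fields. -/
theorem effective_of_complete {X S : Scheme.{u}} [IsLocallyNoetherian S] (g : X ⟶ S) (hg : SGA1.UnivSubmersive g)
    [LocallyOfFiniteType g] [QuasiCompact g] (D : SchDD g) [QuasiCompact D.obj.hom] [IsSeparated D.obj.hom]
    [Etale D.obj.hom]
    (h : ∀ (B : Type u) [CommRing B] [IsNoetherianRing B] [IsLocalRing B]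
      [IsAdicComplete (IsLocalRing.maximalIdeal B) B] [IsAlgClosed (IsLocalRing.ResidueField B)]
      (s : Spec (CommRingCat.of B) ⟶ S) (D' : SchDD (pullback.snd g s)),
      QuasiCompact D'.obj.hom → IsSeparated D'.obj.hom → Etale D'.obj.hom →
      ∃ (U : Scheme.{u}) (v : U ⟶ Spec (CommRingCat.of B)) (q : D'.obj.left ⟶ U),
        Etale v ∧ IsQuot D' (𝟙 _) v q) :
    ∃ U : Over S, QuasiCompact U.hom ∧ IsSeparated U.hom ∧ Etale U.hom ∧
      Nonempty ((Desc.toDD g).obj U ≅ D) := by
  haveI := LocallyOfFiniteType.isLocallyNoetherian g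
  let D₀ := (SchDDFam.ofSchDD.{0} g).obj D
  haveI : IsSeparated (sdd D₀).obj.hom := ‹IsSeparated D.obj.hom›
  haveI : QuasiCompact (sdd D₀).obj.hom := ‹QuasiCompact D.obj.hom›
  haveI : Etale (sdd D₀).obj.hom := ‹Etale D.obj.hom›
  have hE : HasEt (sdd D₀) (𝟙 S) := by
    refine hasEt_of_open_cover (fun a => exists_open_of_hasEt_stalk hg ?_) hg
    let O := S.presheaf.stalk a
    let K := AlgebraicClosure (IsLocalRing.ResidueField O)
    obtain ⟨B, _, _, _, _, hflat, -, hN, e, -⟩ := GonfLib.exists_local_extension_residueField (A := O) K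
    haveI := hN inferInstance
    let C := AdicCompletion (IsLocalRing.maximalIdeal B) B
    haveI : IsNoetherianRing C := AdicRingLib.isNoetherianRing_adicCompletion _
    haveI : IsAlgClosed (IsLocalRing.ResidueField C) :=
      IsAlgClosed.of_ringEquiv K _
        (e.symm.trans (RingEquiv.ofBijective _ (AdicCompletion.residueField_map_bijective B)))
    haveI : Module.Flat B C := AdicCompletion.flat_of_isNoetherian _
    obtain ⟨hf₁, hs₁⟩ := flat_surjective_SpecMap (A := O) (B := B)
    obtain ⟨hf₂, hs₂⟩ := flat_surjective_SpecMap (A := B) (B := C)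
    let φ₁ : Spec (CommRingCat.of B) ⟶ Spec O := Spec.map (CommRingCat.ofHom (algebraMap O B))
    let φ₂ : Spec (CommRingCat.of C) ⟶ Spec (CommRingCat.of B) := Spec.map (CommRingCat.ofHom (algebraMap B C))
    haveI : Flat φ₁ := hf₁
    haveI : Surjective φ₁ := hs₁
    haveI : Flat φ₂ := hf₂
    haveI : Surjective φ₂ := hs₂
    haveI : QuasiCompact (φ₂ ≫ φ₁) := inferInstance
    let s' : Spec (CommRingCat.of C) ⟶ S := (φ₂ ≫ φ₁) ≫ S.fromSpecStalk a
    let D' := sdd (pullFam D₀ s')
    obtain ⟨U, v, q, hv, hq⟩ := h C s' D'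
      (inferInstanceAs (QuasiCompact (pullback.snd (sdd D₀).obj.hom (pullback.fst g s'))))
      (inferInstanceAs (IsSeparated (pullback.snd (sdd D₀).obj.hom (pullback.fst g s'))))
      (inferInstanceAs (Etale (pullback.snd (sdd D₀).obj.hom (pullback.fst g s'))))
    obtain ⟨q', hq'⟩ := qAt_of_isQuot hq
    exact hasEt_of_ff_extension (S.fromSpecStalk a) (φ₂ ≫ φ₁) rfl hg ⟨U, v, q', hv, hq'⟩
  obtain ⟨U, v, q₀, hv, hq₀⟩ := hE
  haveI := isSeparated_quot hg hq₀
  haveI := surjective_of_univSubmersive (hq₀.univSubmersive hg)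
  haveI : QuasiCompact v := by
    haveI : QuasiCompact (q₀ ≫ v) := by rw [hq₀.w]; infer_instance
    exact quasiCompact_of_surjective_comp q₀ v
  obtain ⟨U', i, hi⟩ : ∃ U : Over S, (QuasiCompact U.hom ∧ IsSeparated U.hom ∧ Etale U.hom) ∧
      Nonempty ((Desc.toDDFam (fun _ : PUnit.{1} => g)).obj U ≅ D₀) :=
    (effective_iff_qAt (fun _ _ v => QuasiCompact v ∧ IsSeparated v ∧ Etale v)).2
      ⟨U, v, q₀, ⟨‹_›, ‹_›, hv⟩, hq₀⟩
  obtain ⟨U'', v'', q'', hP, hq''⟩ :=
    (effective_iff D₀ (fun _ _ v => QuasiCompact v ∧ IsSeparated v ∧ Etale v)).1 ⟨U', i, hi⟩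
  exact ⟨Over.mk v'', hP.1, hP.2.1, hP.2.2, iso_of_isQuot hq''⟩

end SubmDescLib
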