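import Groth.Agent.SubmDescLib.Etale
import Groth.Agent.HenselLib.FiniteDecomp
import Groth.Agent.DvrDom.Scheme

/-!
# Finite surjective refinements of quasi-finite universally submersive morphisms
-/

set_option autoImplicit false
set_option linter.style.haveILetI false
set_option backward.isDefEq.respectTransparency false
set_option backward.isDefEq.respectTransparency.types false

universe u

open CategoryTheory CategoryTheory.Limits AlgebraicGeometry TopologicalSpace

namespace SubmDescLib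

variable {B : Type u} [CommRing B] [HenselianLocalRing B]

/-- A point over the closed point of a quasi-finite scheme over a henselian local ring has an open
neighbourhood finite over the base. -/
theorem exists_finite_nhd {X : Scheme.{u}} (g : X ⟶ Spec (CommRingCat.of B)) [LocallyOfFiniteType g]
    [LocallyQuasiFinite g] (x : X) (hx : g x = IsLocalRing.closedPoint B) :
    ∃ (R : Type u) (_ : CommRing R) (b : B →+* R) (r : Spec (CommRingCat.of R) ⟶ X),
      b.Finite ∧ IsOpenImmersion r ∧ r ≫ g = Spec.map (CommRingCat.ofHom b) ∧ x ∈ Set.range r := by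
  obtain ⟨U, hU, hxU, -⟩ := exists_isAffineOpen_mem_and_subset (X := X) (x := x) (U := ⊤) trivial
  let φ : CommRingCat.of B ⟶ Γ(X, U) := Spec.preimage (hU.fromSpec ≫ g)
  haveI : LocallyOfFiniteType (Spec.map φ) := by rw [Spec.map_preimage]; infer_instance
  haveI : LocallyQuasiFinite (Spec.map φ) := by rw [Spec.map_preimage]; infer_instance
  letI : Algebra B Γ(X, U) := φ.hom.toAlgebra
  haveI : Algebra.FiniteType B Γ(X, U) := RingHom.finiteType_algebraMap.1
    ((HasRingHomProperty.Spec_iff (P := @LocallyOfFiniteType)).1 (inferInstanceAs (LocallyOfFiniteType (Spec.map φ))))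
  haveI : Algebra.QuasiFinite B Γ(X, U) := RingHom.quasiFinite_algebraMap.1
    ((HasRingHomProperty.Spec_iff (P := @LocallyQuasiFinite)).1 (inferInstanceAs (LocallyQuasiFinite (Spec.map φ))))
  obtain ⟨e, he, hfin, hnq⟩ := HenselLib.exists_idem_quasiFinite (A := B) (B := Γ(X, U))
  let y := hU.primeIdealOf ⟨x, hxU⟩
  have hy : hU.fromSpec y = x := hU.fromSpec_primeIdealOf ⟨x, hxU⟩
  have hym : y.asIdeal.comap (algebraMap B Γ(X, U)) = IsLocalRing.maximalIdeal B := by
    have : Spec.map φ y = IsLocalRing.closedPoint B := by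
      rw [Spec.map_preimage, Scheme.Hom.comp_apply, hy, hx]
    exact congrArg PrimeSpectrum.asIdeal this
  let I : Ideal Γ(X, U) := Ideal.span {1 - e}
  have hey : e ∉ y.asIdeal := by
    intro hey
    let J : Ideal Γ(X, U) := Ideal.span {e}
    haveI : J ≤ y.asIdeal → (y.asIdeal.map (Ideal.Quotient.mk J)).IsPrime := fun h =>
      Ideal.map_isPrime_of_surjective Ideal.Quotient.mk_surjective (by rwa [Ideal.mk_ker])
    have hJ : J ≤ y.asIdeal := (Ideal.span_singleton_le_iff_mem _).2 hey
    haveI := this hJ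
    refine hnq (y.asIdeal.map (Ideal.Quotient.mk J)) ⟨?_⟩ inferInstance
    rw [Ideal.under, IsScalarTower.algebraMap_eq B Γ(X, U) (Γ(X, U) ⧸ J), ← Ideal.comap_comap,
      Ideal.Quotient.algebraMap_eq, Ideal.comap_map_of_surjective _ Ideal.Quotient.mk_surjective,
      ← RingHom.ker_eq_comap_bot, Ideal.mk_ker, sup_eq_left.2 hJ, hym]
  haveI : IsLocalization.Away e (Γ(X, U) ⧸ I) :=
    IsLocalization.away_of_isIdempotentElem he Ideal.mk_ker Ideal.Quotient.mk_surjective
  haveI : IsOpenImmersion (Spec.map (CommRingCat.ofHom (algebraMap Γ(X, U) (Γ(X, U) ⧸ I)))) :=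
    IsOpenImmersion.of_isLocalization e
  refine ⟨_, inferInstance, (algebraMap Γ(X, U) (Γ(X, U) ⧸ I)).comp φ.hom,
    Spec.map (CommRingCat.ofHom (algebraMap Γ(X, U) (Γ(X, U) ⧸ I))) ≫ hU.fromSpec, ?_, inferInstance, ?_, ?_⟩
  · rw [show (algebraMap Γ(X, U) (Γ(X, U) ⧸ I)).comp φ.hom = algebraMap B (Γ(X, U) ⧸ I) from
      (IsScalarTower.algebraMap_eq B Γ(X, U) (Γ(X, U) ⧸ I)).symm]
    exact RingHom.finite_algebraMap.2 hfin
  · rw [CommRingCat.ofHom_comp, CommRingCat.ofHom_hom, Spec.map_comp, Spec.map_preimage, Category.assoc]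
  · have hmem : y ∈ Set.range (PrimeSpectrum.comap (algebraMap Γ(X, U) (Γ(X, U) ⧸ I))) := by
      rw [PrimeSpectrum.localization_away_comap_range (Γ(X, U) ⧸ I) e]
      exact hey
    obtain ⟨y', hy'⟩ := hmem
    refine ⟨y', ?_⟩
    rw [Scheme.Hom.comp_apply]
    change hU.fromSpec (PrimeSpectrum.comap _ y') = x
    rw [CommRingCat.hom_ofHom, hy', hy]

/-- A quasi-finite universally submersive morphism to a henselian Noetherian local scheme is refined by a finite
surjective one. -/
theorem exists_finite_surjective_refinement [IsNoetherianRing B] {X : Scheme.{u}}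
    (g : X ⟶ Spec (CommRingCat.of B)) (hg : SGA1.UnivSubmersive g) [LocallyOfFiniteType g] [QuasiCompact g]
    [LocallyQuasiFinite g] :
    ∃ (X' : Scheme.{u}) (r : X' ⟶ X), IsFinite (r ≫ g) ∧ Surjective (r ≫ g) := by
  classical
  let S := Spec (CommRingCat.of B)
  let s : S := IsLocalRing.closedPoint B
  haveI : Finite ↥(g ⁻¹' {s}) := (g.finite_preimage_singleton s).to_subtype
  choose R iR b r hb hro hrb hrx using fun x : ↥(g ⁻¹' {s}) => exists_finite_nhd g x.1 x.2
  let Rc : ↥(g ⁻¹' {s}) → CommRingCat.{u} := fun x => CommRingCat.of (R x)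
  let X' : Scheme.{u} := Spec (CommRingCat.of (∀ x, Rc x))
  let p' : X' ⟶ S := Spec.map (CommRingCat.ofHom (Pi.ringHom b))
  let r' : X' ⟶ X := inv (sigmaSpec Rc) ≫ Sigma.desc r
  have hp : r' ≫ g = p' := by
    rw [Category.assoc, IsIso.inv_comp_eq]
    refine Sigma.hom_ext _ _ fun x => ?_
    rw [← Category.assoc, Sigma.ι_desc, ι_sigmaSpec_assoc, hrb, ← Spec.map_comp]
    rfl
  haveI : IsFinite p' := by
    refine (IsFinite.SpecMap_iff _).2 ?_
    letI : ∀ x, Algebra B (Rc x) := fun x => (b x).toAlgebra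
    haveI : ∀ x, Module.Finite B (Rc x) := hb
    exact (RingHom.finite_algebraMap (A := B) (B := ∀ x, Rc x)).2 inferInstance
  refine ⟨X', r', hp ▸ inferInstance, hp ▸ ⟨fun a => ?_⟩⟩
  by_contra ha
  have hmem : ∀ w : X, (∃ z, g z = s ∧ w ⤳ z) → g w ∈ Set.range p' := by
    rintro w ⟨z, hz, hwz⟩
    haveI := hro ⟨z, hz⟩
    obtain ⟨y, hy⟩ := hwz.mem_open (r ⟨z, hz⟩).isOpenEmbedding.isOpen_range (hrx ⟨z, hz⟩)
    refine ⟨(Sigma.ι _ ⟨z, hz⟩ ≫ sigmaSpec Rc) y, ?_⟩
    rw [← hp, ← Scheme.Hom.comp_apply]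
    simp only [r', Category.assoc, IsIso.hom_inv_id_assoc]
    rw [Sigma.ι_desc_assoc, Scheme.Hom.comp_apply, hy]
  obtain ⟨z₀, hz₀⟩ := (surjective_of_univSubmersive hg).surj s
  have hs : s ∈ Set.range p' := hz₀ ▸ hmem z₀ ⟨z₀, hz₀, specializes_rfl⟩
  have hne : s ≠ (𝟙 S : S ⟶ S) a := fun e => ha (by
    obtain ⟨y, hy⟩ := hs
    exact ⟨y, hy.trans e⟩)
  obtain ⟨A, h, hA, hhc, hhgen⟩ := DvrDomLib.exists_dvr_through_specialization (𝟙 S) a s
    (IsLocalRing.specializes_closedPoint _) hne
  let T := Spec (CommRingCat.of A)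
  obtain ⟨o⟩ : Nonempty ↥(Spec (S.residueField a)) := inferInstance
  let η : T := Spec.map (CommRingCat.ofHom A.subtype) o
  have hη : h η = a := by
    rw [← Scheme.Hom.comp_apply]
    erw [hhgen]
    rw [Category.comp_id]
    exact Scheme.fromSpecResidueField_apply a o
  have hη0 : η.asIdeal = ⊥ := by
    have : η.asIdeal = o.asIdeal.comap A.subtype := rfl
    rw [this, show o.asIdeal = ⊥ from (Ideal.eq_bot_or_top _).resolve_right o.isPrime.ne_top,
      ← RingHom.ker_eq_comap_bot]
    exact (RingHom.injective_iff_ker_eq_bot _).1 Subtype.val_injective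
  have htwo : ∀ t : T, t ≠ η → t = IsLocalRing.closedPoint A := fun t ht => by
    refine PrimeSpectrum.ext (IsLocalRing.eq_maximalIdeal (t.isPrime.isMaximal ?_))
    exact fun e => ht (PrimeSpectrum.ext (e.trans hη0.symm))
  haveI : QuasiCompact (pullback.snd g h) := inferInstance
  haveI : LocallyQuasiFinite (pullback.snd g h) := inferInstance
  have hq : SGA1.UnivSubmersive (pullback.snd g h) := MorphismProperty.pullback_snd g h hg
  have hnc : ¬ IsClosed ((pullback.snd g h) ⁻¹' {η}) := by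
    rw [(FFDescLib.isQuotientMap_of_univSubmersive hq).isClosed_preimage]
    intro hc
    have hce : IsLocalRing.closedPoint A = η := (IsLocalRing.specializes_closedPoint η).mem_closed hc rfl
    exact hne (by rw [← hhc, hce, hη]; rfl)
  obtain ⟨z, hzc, hzn⟩ : ∃ z, z ∈ closure ((pullback.snd g h) ⁻¹' {η}) ∧ z ∉ (pullback.snd g h) ⁻¹' {η} := by
    by_contra hcon
    push_neg at hcon
    exact hnc (isClosed_of_closure_subset hcon)
  rw [← Set.biUnion_of_singleton ((pullback.snd g h) ⁻¹' {η}),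
    ((pullback.snd g h).finite_preimage_singleton η).closure_biUnion] at hzc
  obtain ⟨w, hw, hwz⟩ := Set.mem_iUnion₂.1 hzc
  have hgz : g (pullback.fst g h z) = s := by
    rw [← Scheme.Hom.comp_apply, pullback.condition, Scheme.Hom.comp_apply, htwo _ hzn, hhc]
  have hgw : g (pullback.fst g h w) = a := by
    rw [← Scheme.Hom.comp_apply, pullback.condition, Scheme.Hom.comp_apply, show pullback.snd g h w = η from hw, hη]
  exact ha (hgw ▸ hmem _ ⟨_, hgz, (specializes_iff_mem_closure.2 hwz).map (pullback.fst g h).continuous⟩)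

end SubmDescLib
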