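import Groth.Agent.SubmDescLib.QAt

/-!
# Effectivity in terms of quotients
-/

set_option autoImplicit false
set_option linter.style.haveILetI false
set_option backward.isDefEq.respectTransparency false
set_option backward.isDefEq.respectTransparency.types false

universe u

open CategoryTheory CategoryTheory.Limits AlgebraicGeometry

namespace SubmDescLib

open Desc DescLib

/-- A descent datum with a quotient is the canonical datum of the quotient. -/
theorem iso_of_isQuot {X S : Scheme.{u}} {p : X ⟶ S} {D : SchDD p} {U : Scheme.{u}} {g : U ⟶ S}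
    {q : D.obj.left ⟶ U} (hq : IsQuot D (𝟙 _) g q) : Nonempty ((Desc.toDD p).obj (Over.mk g) ≅ D) := by
  have sq : IsPullback q D.obj.hom g p := by simpa using hq.isPullback
  let e : pullback p g ≅ D.obj.left := sq.flip.isoPullback.symm
  have he₁ : e.hom ≫ D.obj.hom = pullback.fst p g := by simp [e]
  have he₂ : e.hom ≫ q = pullback.snd p g := by simp [e]
  let f : (Desc.toDD p).obj (Over.mk g) ⟶ D :=
    ⟨Over.homMk e.hom he₁, fun T x₀ x₁ h v w hw => by
      have r := rel_φ h w
      have hc : w.1 ≫ q = (D.φ x₀ x₁ h w).1 ≫ q := hq.rel w.1 (D.φ x₀ x₁ h w).1 (by simpa using r)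
      refine (cancel_mono e.inv).1 ?_
      change _ = (_ ≫ e.hom) ≫ e.inv
      rw [Category.assoc, Iso.hom_inv_id, Category.comp_id]
      apply pullback.hom_ext
      · have h1 := (((Desc.toDD p).obj (Over.mk g)).φ x₀ x₁ h v).2
        change ((((Desc.toDD p).obj (Over.mk g)).φ x₀ x₁ h v).1) ≫ pullback.fst p g = x₁ at h1
        rw [h1, Category.assoc, ← he₁, Iso.inv_hom_id_assoc, (D.φ x₀ x₁ h w).2]
      · refine Eq.trans ?_ (pullback.lift_snd _ _ _).symm
        change w.1 = v.1 ≫ e.hom at hw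
        change ((D.φ x₀ x₁ h w).1 ≫ e.inv) ≫ pullback.snd p g = v.1 ≫ pullback.snd p g
        rw [Category.assoc, ← he₂, Iso.inv_hom_id_assoc, ← hc, hw, Category.assoc]⟩
  refine ⟨⟨f, ⟨Over.homMk e.inv ?_, ?_⟩, ?_, ?_⟩⟩
  · change e.inv ≫ pullback.fst p g = D.obj.hom
    rw [← he₁, Iso.inv_hom_id_assoc]
  · intro T x₀ x₁ h v w hw
    change w.1 = v.1 ≫ e.inv at hw
    have := f.comm x₀ x₁ h w v (by
      change v.1 = w.1 ≫ e.hom
      rw [hw, Category.assoc, Iso.inv_hom_id, Category.comp_id])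
    change (D.φ x₀ x₁ h v).1 = _ ≫ e.hom at this
    change _ = (D.φ x₀ x₁ h v).1 ≫ e.inv
    rw [this, Category.assoc, Iso.hom_inv_id, Category.comp_id]
  · ext1; ext1; exact e.hom_inv_id
  · ext1; ext1; exact e.inv_hom_id

variable {S' S : Scheme.{u}} {g : S' ⟶ S}

/-- The datum relative to `g` underlying a one-member family datum. -/
noncomputable abbrev sdd (D : SchDDFam (fun _ : PUnit.{1} => g)) : SchDD g := (SchDDFam.toSchDD.{0} g).obj D

/-- Effectivity relative to `g`, in terms of quotients. -/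
theorem effective_iff (D : SchDDFam (fun _ : PUnit.{1} => g)) (P : MorphismProperty Scheme.{u}) :
    (∃ U : Over S, P U.hom ∧ Nonempty ((Desc.toDDFam (fun _ : PUnit.{1} => g)).obj U ≅ D)) ↔
      ∃ (U : Scheme.{u}) (v : U ⟶ S) (q : (sdd D).obj.left ⟶ U), P v ∧ IsQuot (sdd D) (𝟙 _) v q := by
  constructor
  · rintro ⟨U, hU, ⟨i⟩⟩
    haveI : IsOpenImmersion (𝟙 (sdd D) : sdd D ⟶ sdd D).hom.left := inferInstanceAs (IsOpenImmersion (𝟙 (sdd D).obj.left))
    obtain ⟨q, hq⟩ := exists_isQuot_of_hom (D := sdd D) (𝟙 (sdd D)) (U' := U)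
      ((SchDDFam.toSchDD.{0} g).mapIso i)
    exact ⟨U.left, U.hom, q, hU, hq⟩
  · rintro ⟨U, v, q, hv, hq⟩
    obtain ⟨i⟩ := iso_of_isQuot hq
    exact ⟨Over.mk v, hv, ⟨(SchDDFam.ofSchDD.{0} g).mapIso i⟩⟩

variable {S₁ : Scheme.{u}} (D : SchDDFam (fun _ : PUnit.{1} => g)) (s : S₁ ⟶ S)

/-- The base change of a datum along `s`. -/
noncomputable abbrev pullFam : SchDDFam (fun _ : PUnit.{1} => pullback.snd g s) :=
  (Desc.pullDDFam (f := fun _ : PUnit.{1} => g) (f' := fun _ : PUnit.{1} => pullback.snd g s)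
    (α := id) (p := s) (p' := fun _ => pullback.fst g s) (fun _ => pullback.condition)).obj D

theorem sdd_pullFam : sdd (pullFam D s) =
    pullDD (sdd D) (pullback.snd g s) (pullback.fst g s) s pullback.condition := rfl

variable {D s}

theorem qAt_of_isQuot {U : Scheme.{u}} {v : U ⟶ S₁} {q : (sdd (pullFam D s)).obj.left ⟶ U}
    (hq : IsQuot (sdd (pullFam D s)) (𝟙 _) v q) : ∃ q', QAt (sdd D) s v q' := by
  let ε := pullbackRightPullbackFstIso g s (sdd D).obj.hom
  let e : Pt (sdd D) s ⟶ (sdd (pullFam D s)).obj.left := ε.inv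
  have he₁ : e ≫ pullFst (D := sdd D) (r := pullback.fst g s) (p' := pullback.snd g s) (w := pullback.condition) =
      pullback.fst _ _ := pullbackRightPullbackFstIso_inv_fst _ _ _
  have he₂ : e ≫ (sdd (pullFam D s)).obj.hom ≫ pullback.snd g s = pullback.snd _ _ :=
    pullbackRightPullbackFstIso_inv_snd_snd _ _ _
  have he₃ : e ≫ (sdd (pullFam D s)).obj.hom ≫ pullback.fst g s = pullback.fst _ _ ≫ (sdd D).obj.hom :=
    pullbackRightPullbackFstIso_inv_snd_fst _ _ _
  haveI : IsIso e := inferInstanceAs (IsIso ε.inv)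
  have sq : IsPullback q (sdd (pullFam D s)).obj.hom v (pullback.snd g s) := by simpa using hq.isPullback
  refine ⟨e ≫ q, ⟨?_, fun T a b hs hr => ?_, ?_⟩⟩
  · rw [Category.assoc, sq.w, he₂]
  · have := hq.rel (a ≫ e) (b ≫ e) (by
      simp only [Category.comp_id]
      refine (rel_pull (D := sdd D) (w := pullback.condition) _ _).2 ⟨?_, ?_⟩
      · change ((a ≫ e) ≫ (sdd (pullFam D s)).obj.hom) ≫ pullback.snd g s =
          ((b ≫ e) ≫ (sdd (pullFam D s)).obj.hom) ≫ pullback.snd g s
        simpa only [Category.assoc, he₂] using hs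
      · simpa only [Category.assoc, he₁] using hr)
    simpa only [Category.assoc] using this
  · have h := (sq.flip.paste_horiz (IsPullback.of_hasPullback g s)).flip
    refine h.of_iso (asIso e).symm (Iso.refl _) (Iso.refl _) (Iso.refl _) (by simp) ?_ (by simp) (by simp)
    rw [Iso.refl_hom, Category.comp_id, Iso.symm_hom, asIso_inv, ← he₃, IsIso.inv_hom_id_assoc]

theorem isQuot_of_qAt {U : Scheme.{u}} {v : U ⟶ S₁} {q : Pt (sdd D) s ⟶ U} (hq : QAt (sdd D) s v q) :
    ∃ q', IsQuot (sdd (pullFam D s)) (𝟙 _) v q' := by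
  let ε := pullbackRightPullbackFstIso g s (sdd D).obj.hom
  let e' : (sdd (pullFam D s)).obj.left ⟶ Pt (sdd D) s := ε.hom
  have he₁ : e' ≫ pullback.fst _ _ =
      pullFst (D := sdd D) (r := pullback.fst g s) (p' := pullback.snd g s) (w := pullback.condition) :=
    pullbackRightPullbackFstIso_hom_fst _ _ _
  have he₂ : e' ≫ pullback.snd _ _ = (sdd (pullFam D s)).obj.hom ≫ pullback.snd g s :=
    pullbackRightPullbackFstIso_hom_snd _ _ _
  refine ⟨e' ≫ q, ⟨fun T a b hr => ?_, fun T a c _ => ⟨c, Category.comp_id c⟩, ?_⟩⟩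
  · simp only [Category.comp_id] at hr
    obtain ⟨h₁, h₂⟩ := (rel_pull (D := sdd D) (w := pullback.condition) _ _).1 hr
    have := hq.rel (a ≫ e') (b ≫ e') (by
      change (a ≫ (sdd (pullFam D s)).obj.hom) ≫ pullback.snd g s =
        (b ≫ (sdd (pullFam D s)).obj.hom) ≫ pullback.snd g s at h₁
      simpa only [Category.assoc, he₂] using h₁) (by rw [Category.assoc, Category.assoc, he₁]; exact h₂)
    simpa only [Category.assoc] using this
  · rw [Category.id_comp]
    refine IsPullback.flip (IsPullback.of_right ?_ ?_ (IsPullback.of_hasPullback g s))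
    · haveI : IsIso e' := inferInstanceAs (IsIso ε.hom)
      refine hq.isPullback.flip.of_iso (asIso e').symm (Iso.refl _) (Iso.refl _) (Iso.refl _)
        ?_ (by simp) (by simp) (by simp)
      rw [Iso.refl_hom, Category.comp_id, Iso.symm_hom, asIso_inv, IsIso.eq_inv_comp, ← Category.assoc e',
        he₁, pullFst_hom]
      rfl
    · rw [Category.assoc, hq.w, he₂]

/-- Effectivity over `S₁`, in terms of quotients of the base change. -/
theorem effective_pull_iff (P : MorphismProperty Scheme.{u}) :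
    (∃ U : Over S₁, P U.hom ∧ Nonempty ((Desc.toDDFam (fun _ : PUnit.{1} => pullback.snd g s)).obj U ≅ pullFam D s)) ↔
      ∃ (U : Scheme.{u}) (v : U ⟶ S₁) (q : Pt (sdd D) s ⟶ U), P v ∧ QAt (sdd D) s v q := by
  rw [effective_iff]
  constructor
  · rintro ⟨U, v, q, hv, hq⟩
    exact ⟨U, v, (qAt_of_isQuot hq).choose, hv, (qAt_of_isQuot hq).choose_spec⟩
  · rintro ⟨U, v, q, hv, hq⟩
    exact ⟨U, v, (isQuot_of_qAt hq).choose, hv, (isQuot_of_qAt hq).choose_spec⟩

/-- Effectivity over `S`, in terms of the quotient at the identity. -/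
theorem effective_iff_qAt (P : MorphismProperty Scheme.{u}) :
    (∃ U : Over S, P U.hom ∧ Nonempty ((Desc.toDDFam (fun _ : PUnit.{1} => g)).obj U ≅ D)) ↔
      ∃ (U : Scheme.{u}) (v : U ⟶ S) (q : Pt (sdd D) (𝟙 S) ⟶ U), P v ∧ QAt (sdd D) (𝟙 S) v q := by
  rw [effective_iff]
  let l : (sdd D).obj.left ⟶ Pt (sdd D) (𝟙 S) := pullback.lift (𝟙 _) ((sdd D).obj.hom ≫ g) (by simp)
  have hl : pullback.fst ((sdd D).obj.hom ≫ g) (𝟙 S) ≫ l = 𝟙 _ := by
    apply pullback.hom_ext
    · simp [l]
    · simp [l, pullback.condition]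
  constructor
  · rintro ⟨U, v, q, hv, hq⟩
    refine ⟨U, v, pullback.fst _ _ ≫ q, hv, ⟨?_, fun T a b _ r => ?_, ?_⟩⟩
    · rw [Category.assoc, hq.w, Category.id_comp, pullback.condition, Category.comp_id]
    · have := hq.rel _ _ (by simpa using r)
      simp only [Category.assoc] at this
      exact this
    · haveI : IsIso (pullback.fst ((sdd D).obj.hom ≫ g) (𝟙 S)) := ⟨l, hl, by simp [l]⟩
      exact hq.isPullback.of_iso (asIso (pullback.fst ((sdd D).obj.hom ≫ g) (𝟙 S))).symm (Iso.refl _) (Iso.refl _) (Iso.refl _)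
        (by simp) (by simp) (by simp) (by simp)
  · rintro ⟨U, v, q, hv, hq⟩
    refine ⟨U, v, l ≫ q, hv, ⟨fun T a b r => ?_, fun T a c _ => ⟨c, Category.comp_id c⟩, ?_⟩⟩
    · simp only [Category.comp_id] at r
      have := hq.rel (a ≫ l) (b ≫ l) (by simpa [l] using r.1) (by simpa [l] using r)
      simpa only [Category.assoc] using this
    · haveI : IsIso l := ⟨pullback.fst ((sdd D).obj.hom ≫ g) (𝟙 S), by simp [l], hl⟩
      exact hq.isPullback.of_iso (asIso l).symm (Iso.refl _) (Iso.refl _) (Iso.refl _)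
        (by simp) (by simp [l]; exact Category.id_comp _) (by simp) (by simp)

end SubmDescLib
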