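import Groth.Agent.RichLib.LimitBaseChange

/-!
# The spectrum of a local ring as the limit of the basic open neighbourhoods
-/

set_option autoImplicit false
set_option linter.style.haveILetI false
set_option backward.isDefEq.respectTransparency false
set_option backward.isDefEq.respectTransparency.types false

universe u

open CategoryTheory CategoryTheory.Limits AlgebraicGeometry TopologicalSpace

noncomputable section

namespace SubmDescLib

variable (R : CommRingCat.{u}) (p : PrimeSpectrum R)

/-- Basic open neighbourhoods of `p`. -/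
def Nbhd : Type u := {f : R // f ∉ p.asIdeal}

/-- The basic open of a neighbourhood. -/
def Nbhd.opens (f : Nbhd R p) : (Spec R).Opens := (Spec R).basicOpen ((Scheme.ΓSpecIso R).inv f.1)

instance : Preorder (Nbhd R p) := Preorder.lift (Nbhd.opens R p)

theorem Nbhd.opens_eq (f : Nbhd R p) : Nbhd.opens R p f = PrimeSpectrum.basicOpen f.1 :=
  basicOpen_eq_of_affine f.1

instance : IsCofiltered (Nbhd R p) where
  cone_objs f g := by
    refine ⟨⟨f.1 * g.1, fun h => (p.isPrime.mem_or_mem h).elim f.2 g.2⟩, homOfLE ?_, homOfLE ?_, trivial⟩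
    · show Nbhd.opens R p _ ≤ Nbhd.opens R p _
      rw [Nbhd.opens_eq, Nbhd.opens_eq, PrimeSpectrum.basicOpen_mul]; exact inf_le_left
    · show Nbhd.opens R p _ ≤ Nbhd.opens R p _
      rw [Nbhd.opens_eq, Nbhd.opens_eq, PrimeSpectrum.basicOpen_mul]; exact inf_le_right
  cone_maps f g a b := ⟨f, 𝟙 f, Subsingleton.elim _ _⟩
  nonempty := ⟨⟨1, fun h => p.isPrime.ne_top ((Ideal.eq_top_iff_one _).2 h)⟩⟩

/-- The spectrum of the local ring at `p`. -/
abbrev locPt : Scheme.{u} := Spec (CommRingCat.of (Localization.AtPrime p.asIdeal))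

/-- The canonical map from the spectrum of the local ring. -/
def locι : locPt R p ⟶ Spec R :=
  Spec.map (CommRingCat.ofHom (algebraMap R (Localization.AtPrime p.asIdeal)))

theorem range_locι_subset (f : Nbhd R p) : Set.range (locι R p) ⊆ Set.range (Nbhd.opens R p f).ι := by
  rw [Scheme.Opens.range_ι, Nbhd.opens_eq]
  rintro _ ⟨q, rfl⟩ hf
  exact q.isPrime.ne_top (Ideal.eq_top_of_isUnit_mem _ hf
    (IsLocalization.map_units (Localization.AtPrime p.asIdeal) (⟨f.1, f.2⟩ : p.asIdeal.primeCompl)))

theorem isUnit_appTop {T : Scheme.{u}} (ψ : T ⟶ Spec R) (f : Nbhd R p)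
    (h : Set.range ψ ⊆ (Nbhd.opens R p f : Set (Spec R))) :
    IsUnit (((Scheme.ΓSpecIso R).inv ≫ ψ.appTop).hom f.1) := by
  set a := (Scheme.ΓSpecIso R).inv f.1
  have hpre : T.basicOpen (ψ.appTop a) = ⊤ := by
    rw [← top_le_iff]
    intro x _
    have := Scheme.preimage_basicOpen_top ψ a
    rw [← this]
    exact h ⟨x, rfl⟩
  change IsUnit (ψ.appTop a)
  exact T.toRingedSpace.isUnit_of_isUnit_germ ⊤ _ fun x hx =>
    (T.mem_basicOpen (ψ.appTop a) x hx).1 (hpre.ge hx)

theorem exists_lift {T : Scheme.{u}} (ψ : T ⟶ Spec R)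
    (h : ∀ f : Nbhd R p, Set.range ψ ⊆ (Nbhd.opens R p f : Set (Spec R))) :
    ∃ m : T ⟶ locPt R p, m ≫ locι R p = ψ := by
  let φ := (Scheme.ΓSpecIso R).inv ≫ ψ.appTop
  let l : Localization.AtPrime p.asIdeal →+* Γ(T, ⊤) :=
    IsLocalization.lift (M := p.asIdeal.primeCompl) (g := φ.hom) fun y => isUnit_appTop R p ψ ⟨y.1, y.2⟩ (h _)
  refine ⟨T.toSpecΓ ≫ Spec.map (CommRingCat.ofHom l), ?_⟩
  have : CommRingCat.ofHom (algebraMap R (Localization.AtPrime p.asIdeal)) ≫ CommRingCat.ofHom l = φ := by
    ext x; exact IsLocalization.lift_eq _ x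
  rw [locι, Category.assoc, ← Spec.map_comp, this, Spec.map_comp, ← Category.assoc, ← Scheme.toSpecΓ_naturality,
    Category.assoc, toSpecΓ_SpecMap_ΓSpecIso_inv, Category.comp_id]

instance : Mono (locι R p) := by
  haveI : Epi (CommRingCat.ofHom (algebraMap R (Localization.AtPrime p.asIdeal))) :=
    ⟨fun a b e => CommRingCat.hom_ext (IsLocalization.ringHom_ext p.asIdeal.primeCompl (congrArg CommRingCat.Hom.hom e))⟩
  refine ⟨fun a b e => ?_⟩
  refine ext_of_isAffine ?_
  have e' := congrArg Scheme.Hom.appTop e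
  simp only [locι, Scheme.Hom.comp_appTop] at e'
  have hn : (Spec.map (CommRingCat.ofHom (algebraMap R (Localization.AtPrime p.asIdeal)))).appTop =
      (Scheme.ΓSpecIso R).hom ≫ CommRingCat.ofHom (algebraMap R (Localization.AtPrime p.asIdeal)) ≫
        (Scheme.ΓSpecIso _).inv := by
    rw [← Scheme.ΓSpecIso_naturality_assoc, Iso.hom_inv_id, Category.comp_id]
  simp only [hn, Category.assoc, cancel_epi] at e'
  exact e'

/-- The diagram of basic open neighbourhoods of `p`. -/
def nbhdD : Nbhd R p ⥤ Scheme.{u} where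
  obj f := (Nbhd.opens R p f).toScheme
  map {f g} a := (Spec R).homOfLE (leOfHom a : Nbhd.opens R p f ≤ Nbhd.opens R p g)
  map_id f := by simp
  map_comp a b := by simp

/-- The system of basic open neighbourhoods of `p`, with limit the spectrum of the local ring. -/
def nbhdSys : RichLib.LimBC.Sys (Nbhd R p) (Spec R) where
  D := nbhdD R p
  t f := (Nbhd.opens R p f).ι
  w a := Scheme.homOfLE_ι (Spec R) (leOfHom a)
  c :=
    { pt := locPt R p
      π :=
        { app := fun f => IsOpenImmersion.lift (Nbhd.opens R p f).ι (locι R p) (range_locι_subset R p f)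
          naturality := fun f g a => by
            refine (cancel_mono (Nbhd.opens R p g).ι).1 ?_
            simp [nbhdD] } }
  hc := by
    have key : ∀ s : Cone (nbhdD R p), ∀ f g : Nbhd R p, s.π.app f ≫ (Nbhd.opens R p f).ι = s.π.app g ≫ (Nbhd.opens R p g).ι := by
      intro s f g
      obtain ⟨k, a, b, -⟩ := IsCofilteredOrEmpty.cone_objs (C := Nbhd R p) f g
      rw [← s.w a, ← s.w b, Category.assoc, Category.assoc]
      simp only [nbhdD, Scheme.homOfLE_ι]
    let f₀ : Nbhd R p := Classical.choice IsCofiltered.nonempty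
    have hl : ∀ s : Cone (nbhdD R p), ∃ m : s.pt ⟶ locPt R p, m ≫ locι R p = s.π.app f₀ ≫ (Nbhd.opens R p f₀).ι := fun s => by
      refine exists_lift R p _ fun f => ?_
      rw [key s f₀ f]
      rintro _ ⟨x, rfl⟩
      exact (s.π.app f x).2
    choose l hl using hl
    exact
      { lift := l
        fac := fun s f => by
          simp only [← cancel_mono (Nbhd.opens R p f).ι, Category.assoc, IsOpenImmersion.lift_fac, hl, key s f₀ f]
        uniq := fun s m hm => by
          rw [← cancel_mono (locι R p), hl, ← hm f₀, Category.assoc, IsOpenImmersion.lift_fac] }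
  affine f := by
    haveI : IsAffine (Nbhd.opens R p f).toScheme := (isAffineOpen_top (Spec R)).basicOpen _
    exact inferInstanceAs (IsAffineHom (Nbhd.opens R p f).ι)
  s := locι R p
  hs f := IsOpenImmersion.lift_fac _ _ _

end SubmDescLib
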