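import Groth.Agent.SubmDescLib.Stage
import Groth.Agent.SubmDescLib.StalkSys

/-!
# Effectivity near a point and over the local ring
-/

set_option autoImplicit false
set_option linter.style.haveILetI false
set_option backward.isDefEq.respectTransparency false
set_option backward.isDefEq.respectTransparency.types false

universe u

open CategoryTheory CategoryTheory.Limits AlgebraicGeometry TopologicalSpace

namespace SubmDescLib

open Desc DescLib

variable {X S : Scheme.{u}} {g : X ⟶ S} {D : SchDD g}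

theorem hasEt_stalk_of_open {a : S} {W : S.Opens} (ha : a ∈ W) (h : HasEt D W.ι) :
    HasEt D (S.fromSpecStalk a) :=
  h.comp (W.fromSpecStalkOfMem a ha) _ (Scheme.Opens.fromSpecStalkOfMem_ι _ _ _)

/-- An étale quotient over a local ring extends to a neighbourhood. -/
theorem exists_open_of_hasEt_stalk [LocallyOfFinitePresentation g] [QuasiCompact g] [QuasiSeparated g]
    [LocallyOfFinitePresentation D.obj.hom] [QuasiCompact D.obj.hom] [QuasiSeparated D.obj.hom]
    (hg : SGA1.UnivSubmersive g) {a : S} (h : HasEt D (S.fromSpecStalk a)) :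
    ∃ W : S.Opens, a ∈ W ∧ HasEt D W.ι := by
  obtain ⟨W₀, hW₀, ha, -⟩ := exists_isAffineOpen_mem_and_subset (X := S) (x := a) (U := ⊤) trivial
  let R := Γ(S, W₀)
  let p : PrimeSpectrum R := hW₀.primeIdealOf ⟨a, ha⟩
  letI : Algebra R (S.presheaf.stalk a) := (S.presheaf.germ W₀ a ha).hom.toAlgebra
  haveI : IsLocalization.AtPrime (S.presheaf.stalk a) p.asIdeal := hW₀.isLocalization_stalk ⟨a, ha⟩
  let e : S.presheaf.stalk a ≃ₐ[R] Localization.AtPrime p.asIdeal :=
    IsLocalization.algEquiv p.asIdeal.primeCompl _ _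
  let x : locPt R p ⟶ Spec (S.presheaf.stalk a) := Spec.map (CommRingCat.ofHom e.toRingHom)
  have hx : x ≫ S.fromSpecStalk a = locι R p ≫ hW₀.fromSpec := by
    rw [← hW₀.fromSpecStalk_eq_fromSpecStalk ha, IsAffineOpen.fromSpecStalk, ← Category.assoc, ← Spec.map_comp]
    rw [show S.presheaf.germ W₀ a ha ≫ CommRingCat.ofHom e.toRingHom =
      CommRingCat.ofHom (algebraMap R (Localization.AtPrime p.asIdeal)) from
        CommRingCat.hom_ext (RingHom.ext fun r => e.commutes r)]
    rfl
  obtain ⟨f, hf⟩ := exists_hasEt_stage (nbhdSys R p) hW₀.fromSpec hg (h.comp x (locι R p ≫ hW₀.fromSpec) hx)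
  let j := (Nbhd.opens R p f).ι ≫ hW₀.fromSpec
  refine ⟨j.opensRange, ?_, hf.comp (IsOpenImmersion.isoOfRangeEq j.opensRange.ι j ?_).hom _
    (IsOpenImmersion.isoOfRangeEq_hom_fac _ _ _)⟩
  · have hp : p ∈ Nbhd.opens R p f := by rw [Nbhd.opens_eq]; exact f.2
    refine ⟨⟨p, hp⟩, ?_⟩
    rw [Scheme.Hom.comp_apply]
    exact hW₀.fromSpec_primeIdealOf ⟨a, ha⟩
  · rw [Scheme.Opens.range_ι]; rfl

end SubmDescLib
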