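import Groth.Agent.SubmDescLib.Fpqc
import Groth.Agent.SubmDescLib.Bridge
import Groth.Agent.SubmDescLib.Nhd

/-!
# Effectivity over local rings is checked on faithfully flat extensions
-/

set_option autoImplicit false
set_option linter.style.haveILetI false
set_option backward.isDefEq.respectTransparency false
set_option backward.isDefEq.respectTransparency.types false

universe u

open CategoryTheory CategoryTheory.Limits AlgebraicGeometry

namespace SubmDescLib

open Desc DescLib

variable {X S : Scheme.{u}} {g : X ⟶ S} {D : SchDDFam (fun _ : PUnit.{1} => g)}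

/-- A quotient over `S₁` of `D` gives one of the pullback of `D` to an intermediate base. -/
theorem qAt_pullFam {S₁ S₂ : Scheme.{u}} (s : S₁ ⟶ S) (p : S₂ ⟶ S₁) {s' : S₂ ⟶ S} (hs : p ≫ s = s')
    {U : Scheme.{u}} {v : U ⟶ S₂} {q : Pt (sdd D) s' ⟶ U} (hq : QAt (sdd D) s' v q) :
    ∃ q', QAt (sdd (pullFam D s)) p v q' := by
  subst hs
  let D' := sdd (pullFam D s)
  let π' := D'.obj.hom
  let pf := pullFst (D := sdd D) (r := pullback.fst g s) (p' := pullback.snd g s) (w := pullback.condition)
  have hpf : pf ≫ (sdd D).obj.hom = π' ≫ pullback.fst g s := pullback.condition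
  have hpg : (pf ≫ (sdd D).obj.hom) ≫ g = (π' ≫ pullback.snd g s) ≫ s := by
    rw [hpf, Category.assoc, pullback.condition, Category.assoc]
  let ι : Pt D' p ⟶ Pt (sdd D) (p ≫ s) := pullback.lift (f := (sdd D).obj.hom ≫ g) (g := p ≫ s)
    (pullback.fst _ _ ≫ pf) (pullback.snd _ _) (by
      rw [Category.assoc, ← Category.assoc pf, hpg, ← Category.assoc, ← Category.assoc _ p]
      exact congrArg (· ≫ s) pullback.condition)
  have hι₁ : ι ≫ pullback.fst _ _ = pullback.fst _ _ ≫ pf := pullback.lift_fst _ _ _
  have hι₂ : ι ≫ pullback.snd _ _ = pullback.snd _ _ := pullback.lift_snd _ _ _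
  refine ⟨ι ≫ q, ⟨?_, fun T a b e r => ?_, ?_⟩⟩
  · rw [Category.assoc, hq.w, hι₂]
  · obtain ⟨-, h₂⟩ := (rel_pull (D := sdd D) (w := pullback.condition) _ _).1 r
    have := hq.rel (a ≫ ι) (b ≫ ι) (by simpa only [Category.assoc, hι₂] using e)
      (by simpa only [Category.assoc, hι₁] using h₂)
    simpa only [Category.assoc] using this
  · refine IsPullback.of_right (h₁₂ := pullback.fst g s) (h₂₂ := s) ?_ ?_
      (IsPullback.of_hasPullback g s) |>.flip
    · haveI : IsIso ι := by
        let κ : Pt (sdd D) (p ≫ s) ⟶ D'.obj.left :=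
          pullback.lift (f := (sdd D).obj.hom) (g := pullback.fst g s) (pullback.fst _ _)
            (pullback.lift (f := g) (g := s) (pullback.fst _ _ ≫ (sdd D).obj.hom) (pullback.snd _ _ ≫ p)
              (by rw [Category.assoc, Category.assoc]; exact pullback.condition)) (pullback.lift_fst _ _ _).symm
        have hκ₁ : κ ≫ pf = pullback.fst _ _ := pullback.lift_fst _ _ _
        have hκ₂ : κ ≫ π' = pullback.lift (f := g) (g := s) (pullback.fst _ _ ≫ (sdd D).obj.hom)
            (pullback.snd _ _ ≫ p) (by rw [Category.assoc, Category.assoc]; exact pullback.condition) :=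
          pullback.lift_snd _ _ _
        refine ⟨pullback.lift (f := π' ≫ pullback.snd g s) (g := p) κ (pullback.snd _ _)
          (by rw [← Category.assoc, hκ₂, pullback.lift_snd]), ?_, ?_⟩
        · apply pullback.hom_ext
          · rw [Category.assoc, pullback.lift_fst, Category.id_comp]
            refine pullHom_ext (D := sdd D) (w := pullback.condition) ?_ ?_
            · change (ι ≫ κ) ≫ pf = _ ≫ pf
              rw [Category.assoc, hκ₁, hι₁]
            · change (ι ≫ κ) ≫ π' = _ ≫ π'
              rw [Category.assoc, hκ₂]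
              apply pullback.hom_ext
              · rw [Category.assoc, pullback.lift_fst, reassoc_of% hι₁, hpf, Category.assoc]
              · rw [Category.assoc, pullback.lift_snd, reassoc_of% hι₂, ← pullback.condition, Category.assoc]
          · rw [Category.assoc, pullback.lift_snd, hι₂, Category.id_comp]
        · apply pullback.hom_ext
          · rw [Category.assoc, hι₁, pullback.lift_fst_assoc, hκ₁, Category.id_comp]
          · rw [Category.assoc, hι₂, pullback.lift_snd, Category.id_comp]
      refine hq.isPullback.flip.of_iso (asIso ι).symm (Iso.refl _) (Iso.refl _) (Iso.refl _) ?_ (by simp)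
        (by simp) (by simp)
      rw [Iso.refl_hom, Category.comp_id, Iso.symm_hom, asIso_inv, IsIso.eq_inv_comp, ← Category.assoc ι, hι₁,
        Category.assoc, hpf]
      simp [π', D']
    · rw [Category.assoc, Category.assoc, reassoc_of% hq.w, reassoc_of% hι₂]
      exact pullback.condition

/-- The underlying quotient is separated when the datum is. -/
theorem isSeparated_quot {S₁ : Scheme.{u}} {s : S₁ ⟶ S} (hg : SGA1.UnivSubmersive g) [IsSeparated (sdd D).obj.hom]
    {U : Scheme.{u}} {v : U ⟶ S₁} {q : Pt (sdd D) s ⟶ U} (hq : QAt (sdd D) s v q) : IsSeparated v := by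
  let π := (sdd D).obj.hom
  let l : Pt (sdd D) s ⟶ pullback g s := pullback.lift (pullback.fst _ _ ≫ π) (pullback.snd _ _)
    (by rw [Category.assoc]; exact pullback.condition)
  have sqπ : IsPullback (pullback.fst _ _) l π (pullback.fst g s) := by
    refine (IsPullback.of_right ?_ (pullback.lift_fst _ _ _) (IsPullback.of_hasPullback g s).flip).flip
    rw [pullback.lift_snd]
    exact (IsPullback.of_hasPullback (π ≫ g) s).flip
  haveI : IsSeparated l := MorphismProperty.of_isPullback (P := @IsSeparated) sqπ ‹_›
  have sq : IsPullback l q (pullback.snd g s) v := by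
    refine IsPullback.of_right ?_ ?_ (IsPullback.of_hasPullback g s)
    · rw [pullback.lift_fst]
      exact hq.isPullback.flip
    · rw [pullback.lift_snd, hq.w]
  exact FFDescLib.isSeparated_of_isPullback sq (MorphismProperty.pullback_snd g s hg)

/-- Effectivity over a local ring is checked on a faithfully flat extension. -/
theorem hasEt_of_ff_extension {S₁ S₂ : Scheme.{u}} (s : S₁ ⟶ S) (p : S₂ ⟶ S₁) [Flat p] [Surjective p]
    [QuasiCompact p] {s' : S₂ ⟶ S} (hs : p ≫ s = s') (hg : SGA1.UnivSubmersive g) [QuasiCompact g]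
    [IsSeparated (sdd D).obj.hom] [QuasiCompact (sdd D).obj.hom] (h : HasEt (sdd D) s') :
    HasEt (sdd D) s := by
  obtain ⟨U₁, v₁, q₁, hv, hq₁⟩ := h
  haveI := surjective_of_univSubmersive (hq₁.univSubmersive hg)
  haveI : QuasiCompact v₁ := by
    haveI : QuasiCompact (q₁ ≫ v₁) := by rw [hq₁.w]; infer_instance
    exact quasiCompact_of_surjective_comp q₁ v₁
  haveI := isSeparated_quot hg hq₁
  obtain ⟨q', hq'⟩ := qAt_pullFam s p hs hq₁
  obtain ⟨U, v, q, ⟨het, -, -⟩, hq⟩ :=
    exists_qAt_of_fpqc (sdd (pullFam D s)) p (MorphismProperty.pullback_snd g s hg) hq'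
  exact (effective_pull_iff @Etale).1 ((effective_iff (pullFam D s) @Etale).2 ⟨U, v, q, het, hq⟩)

theorem flat_surjective_SpecMap {A B : Type u} [CommRing A] [CommRing B] [IsLocalRing A] [IsLocalRing B]
    [Algebra A B] [Module.Flat A B] [IsLocalHom (algebraMap A B)] :
    Flat (Spec.map (CommRingCat.ofHom (algebraMap A B))) ∧ Surjective (Spec.map (CommRingCat.ofHom (algebraMap A B))) := by
  refine (flat_and_surjective_SpecMap_iff (CommRingCat.ofHom (algebraMap A B))).2 ?_
  rw [CommRingCat.hom_ofHom, RingHom.faithfullyFlat_algebraMap_iff]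
  exact Module.FaithfullyFlat.of_flat_of_isLocalHom

end SubmDescLib
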