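import Groth.Agent.SubmDescLib.FiniteClosed
import Groth.Agent.SubmDescLib.Completion
import Groth.Agent.GonfLib.Residue
import Groth.Agent.AdicRingLib.Completion
import Groth.Agent.CohenLib.FlatUnramified

/-!
# Effective étale descent along finite surjective morphisms to complete local schemes
-/

set_option autoImplicit false
set_option linter.style.haveILetI false
set_option backward.isDefEq.respectTransparency false
set_option backward.isDefEq.respectTransparency.types false

universe u

open CategoryTheory CategoryTheory.Limits AlgebraicGeometry TopologicalSpace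

namespace SubmDescLib

open Desc DescLib

theorem univSubmersive_of_universallyClosed_surjective {X Y : Scheme.{u}} (f : X ⟶ Y) [UniversallyClosed f]
    [Surjective f] : SGA1.UnivSubmersive f := by
  intro X' Y' i₁ i₂ a sq
  haveI : UniversallyClosed a := MorphismProperty.of_isPullback (P := @UniversallyClosed) sq.flip ‹_›
  haveI : Surjective a := MorphismProperty.of_isPullback (P := @Surjective) sq.flip ‹_›
  exact (a.isClosedMap).isQuotientMap a.continuous a.surjective

/-- An étale quotient over an open of the base gives a good open. -/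
theorem goodEt_of_hasEt {X S : Scheme.{u}} {p : X ⟶ S} {D : SchDD p} {W : S.Opens} (h : HasEt D W.ι) :
    ∃ O : D.obj.left.Opens, (O : Set D.obj.left) = (D.obj.hom ≫ p) ⁻¹' (W : Set S) ∧ GoodEt D O := by
  obtain ⟨U, v, q, hv, hq⟩ := h
  haveI := hv
  let j : Pt D W.ι ⟶ D.obj.left := pullback.fst _ _
  haveI : IsOpenImmersion j := inferInstance
  have key : ∀ {T : Scheme.{u}} (a b : T ⟶ Pt D W.ι), (a ≫ j) ≫ D.obj.hom ≫ p = (b ≫ j) ≫ D.obj.hom ≫ p →
      a ≫ pullback.snd _ _ = b ≫ pullback.snd _ _ := by
    intro T a b e
    rw [← cancel_mono W.ι]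
    simpa only [j, Category.assoc, pullback.condition] using e
  have hquot : IsQuot D j (v ≫ W.ι) q := by
    refine ⟨fun T a b r => hq.rel a b (key a b (by simpa only [Category.assoc] using r.1)) r, fun T a c r => ?_,
      hq.isPullback⟩
    refine ⟨pullback.lift (f := D.obj.hom ≫ p) (g := W.ι) c (a ≫ pullback.snd _ _) ?_, pullback.lift_fst _ _ _⟩
    have := r.1
    simp only [j, Category.assoc, pullback.condition] at this ⊢
    exact this.symm
  exact ⟨j.opensRange, by
    rw [Scheme.Hom.coe_opensRange, Scheme.Pullback.range_fst, Scheme.Opens.range_ι], goodEt_of_isQuot hquot⟩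

/-- Étale descent data relative to a finite surjective morphism to a complete Noetherian local scheme with
algebraically closed residue field have étale quotients. -/
theorem exists_isQuot_complete (B : Type u) [CommRing B] [IsNoetherianRing B] [IsLocalRing B]
    [IsAdicComplete (IsLocalRing.maximalIdeal B) B] [IsAlgClosed (IsLocalRing.ResidueField B)]
    {X : Scheme.{u}} (g : X ⟶ Spec (CommRingCat.of B)) [IsFinite g] [Surjective g] (D : SchDD g)
    [QuasiCompact D.obj.hom] [IsSeparated D.obj.hom] [Etale D.obj.hom] :
    ∃ (U : Scheme.{u}) (v : U ⟶ Spec (CommRingCat.of B)) (q : D.obj.left ⟶ U),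
      Etale v ∧ IsQuot D (𝟙 _) v q := by
  generalize hd : ringKrullDim B = d
  induction d using WellFoundedLT.induction generalizing B X with
  | ind d IH =>
    have hg := univSubmersive_of_universallyClosed_surjective g
    haveI : HenselianLocalRing B := HenselLib.henselianLocalRing_of_henselianRing
    let S := Spec (CommRingCat.of B)
    refine exists_isQuot_glue D hg fun v => ?_
    let a : S := (D.obj.hom ≫ g) v
    by_cases ha : a = IsLocalRing.closedPoint B
    · exact exists_goodEt_closedFibre D v ha
    have hne : a.asIdeal ≠ IsLocalRing.maximalIdeal B := fun e => ha (PrimeSpectrum.ext e)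
    have hlt : a.asIdeal < IsLocalRing.maximalIdeal B := (IsLocalRing.le_maximalIdeal a.isPrime.ne_top).lt_of_ne hne
    let O := S.presheaf.stalk a
    letI algO : Algebra B O := StructureSheaf.stalkAlgebra B a
    haveI : IsLocalization.AtPrime O a.asIdeal := StructureSheaf.IsLocalization.to_stalk B a
    haveI : IsNoetherianRing O := IsLocalization.isNoetherianRing a.asIdeal.primeCompl O inferInstance
    let K := AlgebraicClosure (IsLocalRing.ResidueField O)
    obtain ⟨B', _, _, _, _, hflat, hmax, hN, e, -⟩ := GonfLib.exists_local_extension_residueField (A := O) K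
    haveI := hN inferInstance
    let C := AdicCompletion (IsLocalRing.maximalIdeal B') B'
    haveI : IsNoetherianRing C := AdicRingLib.isNoetherianRing_adicCompletion _
    haveI : IsAlgClosed (IsLocalRing.ResidueField C) :=
      IsAlgClosed.of_ringEquiv K _
        (e.symm.trans (RingEquiv.ofBijective _ (AdicCompletion.residueField_map_bijective B')))
    haveI : Module.Flat B' C := AdicCompletion.flat_of_isNoetherian _
    have hC : ringKrullDim C < d := by
      rw [CohenLib.ringKrullDim_eq_of_flat_unramified B' C AdicCompletion.maximalIdeal_eq_map.symm,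
        CohenLib.ringKrullDim_eq_of_flat_unramified O B' hmax,
        IsLocalization.AtPrime.ringKrullDim_eq_height a.asIdeal O, ← hd,
        ← IsLocalRing.maximalIdeal_height_eq_ringKrullDim]
      exact_mod_cast Ideal.height_strict_mono_of_isPrime_of_isPrime hlt
    obtain ⟨hf₁, hs₁⟩ := flat_surjective_SpecMap (A := O) (B := B')
    obtain ⟨hf₂, hs₂⟩ := flat_surjective_SpecMap (A := B') (B := C)
    let φ₁ : Spec (CommRingCat.of B') ⟶ Spec O := Spec.map (CommRingCat.ofHom (algebraMap O B'))
    let φ₂ : Spec (CommRingCat.of C) ⟶ Spec (CommRingCat.of B') := Spec.map (CommRingCat.ofHom (algebraMap B' C))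
    haveI : Flat φ₁ := hf₁
    haveI : Surjective φ₁ := hs₁
    haveI : Flat φ₂ := hf₂
    haveI : Surjective φ₂ := hs₂
    haveI : QuasiCompact (φ₂ ≫ φ₁) := inferInstance
    let s' : Spec (CommRingCat.of C) ⟶ S := (φ₂ ≫ φ₁) ≫ S.fromSpecStalk a
    let D₀ := (SchDDFam.ofSchDD.{0} g).obj D
    let D' := sdd (pullFam D₀ s')
    haveI : IsSeparated (sdd D₀).obj.hom := ‹IsSeparated D.obj.hom›
    haveI : QuasiCompact (sdd D₀).obj.hom := ‹QuasiCompact D.obj.hom›
    haveI : Etale (sdd D₀).obj.hom := ‹Etale D.obj.hom›
    haveI : Etale D'.obj.hom := inferInstanceAs (Etale (pullback.snd (sdd D₀).obj.hom (pullback.fst g s')))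
    haveI : QuasiCompact D'.obj.hom :=
      inferInstanceAs (QuasiCompact (pullback.snd (sdd D₀).obj.hom (pullback.fst g s')))
    haveI : IsSeparated D'.obj.hom :=
      inferInstanceAs (IsSeparated (pullback.snd (sdd D₀).obj.hom (pullback.fst g s')))
    obtain ⟨U, w, q, hw, hq⟩ := IH _ hC C (pullback.snd g s') D' rfl
    obtain ⟨q', hq'⟩ := qAt_of_isQuot hq
    obtain ⟨W, haW, hW⟩ := exists_open_of_hasEt_stalk hg
      (hasEt_of_ff_extension (D := D₀) (S.fromSpecStalk a) (φ₂ ≫ φ₁) rfl hg ⟨U, w, q', hw, hq'⟩)
    obtain ⟨O', hO', hgood⟩ := goodEt_of_hasEt hW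
    exact ⟨O', hO'.ge (show v ∈ (D.obj.hom ≫ g) ⁻¹' (W : Set S) from haW), hgood⟩

end SubmDescLib
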