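import Groth.Agent.SubmDescLib.Etale
import Groth.Agent.DescLib.Main
import Groth.Prelude.Def_DescFam

/-!
# Quotients of a descent datum after base change
-/

set_option autoImplicit false
set_option linter.style.haveILetI false
set_option backward.isDefEq.respectTransparency false
set_option backward.isDefEq.respectTransparency.types false

universe u

open CategoryTheory CategoryTheory.Limits AlgebraicGeometry

namespace SubmDescLib

open Desc DescLib

variable {X S : Scheme.{u}} {p : X ⟶ S} (D : SchDD p) {S₁ : Scheme.{u}}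

/-- The base change of the underlying scheme of `D` along `s`. -/
noncomputable abbrev Pt (s : S₁ ⟶ S) : Scheme.{u} := pullback (D.obj.hom ≫ p) s

/-- `q` exhibits `U` as the quotient of the base change of `D` along `s`. -/
structure QAt (s : S₁ ⟶ S) {U : Scheme.{u}} (v : U ⟶ S₁) (q : Pt D s ⟶ U) : Prop where
  w : q ≫ v = pullback.snd _ _
  rel : ∀ ⦃T : Scheme.{u}⦄ (a b : T ⟶ Pt D s), a ≫ pullback.snd _ _ = b ≫ pullback.snd _ _ →
    Rel D (a ≫ pullback.fst _ _) (b ≫ pullback.fst _ _) → a ≫ q = b ≫ q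
  isPullback : IsPullback q (pullback.fst _ _ ≫ D.obj.hom) (v ≫ s) p

/-- `D` has an étale quotient over `S₁`. -/
def HasEt (s : S₁ ⟶ S) : Prop :=
  ∃ (U : Scheme.{u}) (v : U ⟶ S₁) (q : Pt D s ⟶ U), Etale v ∧ QAt D s v q

variable {D} {s : S₁ ⟶ S}

namespace QAt

variable {U : Scheme.{u}} {v : U ⟶ S₁} {q : Pt D s ⟶ U}

theorem hom_ext (hq : QAt D s v q) {T : Scheme.{u}} {a b : T ⟶ Pt D s} (e₁ : a ≫ q = b ≫ q)
    (e₂ : (a ≫ pullback.fst _ _) ≫ D.obj.hom = (b ≫ pullback.fst _ _) ≫ D.obj.hom) : a = b :=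
  hq.isPullback.hom_ext e₁ (by simpa only [Category.assoc] using e₂)

theorem univSubmersive (hq : QAt D s v q) (hp : SGA1.UnivSubmersive p) : SGA1.UnivSubmersive q :=
  MorphismProperty.of_isPullback (P := SGA1.UnivSubmersive) hq.isPullback.flip hp

theorem snd_eq (hq : QAt D s v q) {T : Scheme.{u}} {a b : T ⟶ Pt D s} (e : a ≫ q = b ≫ q) :
    a ≫ pullback.snd _ _ = b ≫ pullback.snd _ _ := by
  rw [← hq.w, ← Category.assoc, e, Category.assoc]

theorem rel_of_eq (hq : QAt D s v q) {T : Scheme.{u}} {a b : T ⟶ Pt D s} (e : a ≫ q = b ≫ q) :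
    Rel D (a ≫ pullback.fst _ _) (b ≫ pullback.fst _ _) := by
  have hs := hq.snd_eq e
  have h : ((a ≫ pullback.fst _ _) ≫ D.obj.hom) ≫ p = ((b ≫ pullback.fst _ _) ≫ D.obj.hom) ≫ p := by
    simp only [Category.assoc, pullback.condition (f := D.obj.hom ≫ p) (g := s)]
    rw [reassoc_of% hs]
  obtain ⟨c, hc, r⟩ := exists_rel (a ≫ pullback.fst _ _) _ h
  let c' : T ⟶ Pt D s := pullback.lift (f := D.obj.hom ≫ p) (g := s) c (a ≫ pullback.snd _ _) (by
    rw [← Category.assoc, hc, ← h]; simp only [Category.assoc, pullback.condition])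
  have hc₁ : c' ≫ pullback.fst _ _ = c := pullback.lift_fst _ _ _
  have hc₂ : c' ≫ pullback.snd _ _ = a ≫ pullback.snd _ _ := pullback.lift_snd _ _ _
  have hb : c' = b := hq.hom_ext ((hq.rel a c' hc₂.symm (by rw [hc₁]; exact r)).symm.trans e) (by rw [hc₁, hc])
  rw [← hb, hc₁]; exact r

/-- Invariant morphisms to étale schemes factor through an étale quotient. -/
theorem exists_desc (hq : QAt D s v q) (hp : SGA1.UnivSubmersive p) {Z B : Scheme.{u}} (z : Z ⟶ B) [Etale z]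
    (v' : U ⟶ B) (f : Pt D s ⟶ Z) (w : f ≫ z = q ≫ v')
    (hf : ∀ ⦃T : Scheme.{u}⦄ (a b : T ⟶ Pt D s), a ≫ pullback.snd _ _ = b ≫ pullback.snd _ _ →
      Rel D (a ≫ pullback.fst _ _) (b ≫ pullback.fst _ _) → a ≫ f = b ≫ f) :
    ∃ t : U ⟶ Z, t ≫ z = v' ∧ q ≫ t = f :=
  SubmDescLib.exists_desc q (hq.univSubmersive hp) z v' f w
    (hf _ _ (hq.snd_eq pullback.condition) (hq.rel_of_eq pullback.condition))

/-- Base change of a quotient. -/
theorem exists_baseChange (hq : QAt D s v q) {S₂ : Scheme.{u}} (x : S₂ ⟶ S₁) (s' : S₂ ⟶ S) (hs : x ≫ s = s')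
    {U₂ : Scheme.{u}} {m : U₂ ⟶ U} {v₂ : U₂ ⟶ S₂} (hU : IsPullback m v₂ v x) :
    ∃ q₂ : Pt D s' ⟶ U₂, QAt D s' v₂ q₂ ∧
      q₂ ≫ m = pullback.lift (f := D.obj.hom ≫ p) (g := s) (pullback.fst _ _) (pullback.snd _ _ ≫ x)
        (by rw [Category.assoc, hs]; exact pullback.condition) ≫ q := by
  let l : Pt D s' ⟶ Pt D s := pullback.lift (f := D.obj.hom ≫ p) (g := s) (pullback.fst _ _)
    (pullback.snd _ _ ≫ x) (by rw [Category.assoc, hs]; exact pullback.condition)
  have hl₁ : l ≫ pullback.fst _ _ = pullback.fst _ _ := pullback.lift_fst _ _ _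
  have hl₂ : l ≫ pullback.snd _ _ = pullback.snd _ _ ≫ x := pullback.lift_snd _ _ _
  let q₂ : Pt D s' ⟶ U₂ := hU.lift (l ≫ q) (pullback.snd _ _) (by rw [Category.assoc, hq.w, hl₂])
  have h₁ : q₂ ≫ m = l ≫ q := hU.lift_fst _ _ _
  have h₂ : q₂ ≫ v₂ = pullback.snd _ _ := hU.lift_snd _ _ _
  have sql : IsPullback l (pullback.snd _ _) (pullback.snd (D.obj.hom ≫ p) s) x := by
    refine IsPullback.of_right ?_ hl₂ (IsPullback.of_hasPullback (D.obj.hom ≫ p) s)
    rw [hl₁, hs]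
    exact IsPullback.of_hasPullback _ _
  have sqq : IsPullback l q₂ q m := by
    refine IsPullback.of_bot ?_ h₁.symm hU
    rw [h₂, hq.w]
    exact sql
  refine ⟨q₂, ⟨h₂, fun T a b e r => hU.hom_ext ?_ ?_, ?_⟩, h₁⟩
  · simp only [Category.assoc, h₁]
    simp only [← Category.assoc]
    exact hq.rel _ _ (by rw [Category.assoc, hl₂, reassoc_of% e, Category.assoc, hl₂])
      (by simpa only [Category.assoc, hl₁] using r)
  · simpa only [Category.assoc, h₂] using e
  · have := sqq.flip.paste_vert hq.isPullback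
    rw [← Category.assoc, hl₁, ← Category.assoc, ← hU.w.symm.trans rfl] at this
    simpa only [Category.assoc, hs, ← hU.w.symm] using this

/-- Two étale quotients over the same base are isomorphic. -/
theorem exists_iso (hq : QAt D s v q) [Etale v] (hp : SGA1.UnivSubmersive p) {U' : Scheme.{u}} {v' : U' ⟶ S₁}
    [Etale v'] {q' : Pt D s ⟶ U'} (hq' : QAt D s v' q') :
    ∃ e : U ≅ U', e.hom ≫ v' = v ∧ q ≫ e.hom = q' := by
  haveI := surjective_of_univSubmersive (hq.univSubmersive hp)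
  haveI := surjective_of_univSubmersive (hq'.univSubmersive hp)
  obtain ⟨t, ht, ht'⟩ := hq.exists_desc hp v' v q' (by rw [hq.w, hq'.w]) hq'.rel
  obtain ⟨t', hs, hs'⟩ := hq'.exists_desc hp v v' q (by rw [hq.w, hq'.w]) hq.rel
  refine ⟨⟨t, t', ?_, ?_⟩, ht, ht'⟩
  · exact SubmDescLib.hom_ext q v (by rw [Category.assoc, hs, ht, Category.id_comp])
      (by rw [reassoc_of% ht', hs', Category.comp_id])
  · exact SubmDescLib.hom_ext q' v' (by rw [Category.assoc, ht, hs, Category.id_comp])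
      (by rw [reassoc_of% hs', ht', Category.comp_id])

end QAt

theorem HasEt.comp (h : HasEt D s) {S₂ : Scheme.{u}} (x : S₂ ⟶ S₁) (s' : S₂ ⟶ S) (hs : x ≫ s = s') :
    HasEt D s' := by
  obtain ⟨U, v, q, hv, hq⟩ := h
  obtain ⟨q₂, hq₂, -⟩ := hq.exists_baseChange x s' hs (IsPullback.of_hasPullback v x)
  exact ⟨_, _, q₂, MorphismProperty.pullback_snd (P := @Etale) v x hv, hq₂⟩

end SubmDescLib
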