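import Groth.Agent.SubmDescLib.QFRefine
import Groth.Agent.UOpenLib.UnibranchTFAE
import Groth.Agent.WeightLib.Count

/-!
# Finite surjective refinements of universally open morphisms over henselian local schemes
-/

set_option autoImplicit false
set_option linter.style.haveILetI false
set_option backward.isDefEq.respectTransparency false
set_option backward.isDefEq.respectTransparency.types false

universe u

open CategoryTheory CategoryTheory.Limits AlgebraicGeometry TopologicalSpace

namespace SubmDescLib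

/-- A universally open surjective morphism of finite type to an integral local scheme has a quasi-finite dominant
quasi-section through the closed fibre. -/
theorem exists_dominant_qf_through_closed {Y : Scheme.{u}} [IsLocallyNoetherian Y] [CompactSpace ↥Y] [IrreducibleSpace ↥Y]
    {X : Scheme.{u}} (g : X ⟶ Y) [LocallyOfFiniteType g] [QuasiCompact g] [Surjective g] [UniversallyOpen g]
    (y : Y) (hy : IsClosed ({y} : Set Y)) :
    ∃ (T : Scheme.{u}) (i : T ⟶ X) (t : T), IrreducibleSpace ↥T ∧ LocallyOfFiniteType (i ≫ g) ∧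
      LocallyQuasiFinite (i ≫ g) ∧ IsDominant (i ≫ g) ∧ (i ≫ g) t = y := by
  have hF : IsClosed (g ⁻¹' {y}) := hy.preimage g.continuous
  haveI : CompactSpace ↥(g ⁻¹' {y}) := by
    refine isCompact_iff_compactSpace.1 ?_
    haveI := QuasiCompact.compactSpace_of_compactSpace g
    exact hF.isCompact
  haveI : Nonempty ↥(g ⁻¹' {y}) := let ⟨x, hx⟩ := g.surjective y; ⟨⟨x, hx⟩⟩
  obtain ⟨⟨x, hx⟩, -, hxc⟩ := (isClosed_univ (X := ↥(g ⁻¹' {y}))).exists_closed_singleton Set.univ_nonempty
  have hxc' : IsClosed ({x} : Set X) := by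
    simpa using hF.isClosedEmbedding_subtypeVal.isClosedMap _ hxc
  obtain ⟨x₀, hg₀, hx₀, hmax, hd⟩ := UOpenLib.exists_max_fibreDimAt g x
  obtain ⟨ζ, hζ, hgζ, hdim⟩ := UOpenLib.exists_generization_of_isUnivOpenAt g hmax
    (WeightLib.isUnivOpenAt_of_universallyOpen x₀) (y₁ := genericPoint Y) (genericPoint_specializes _)
  rw [UOpenLib.fibreDimAt_eq_of_max g hmax, hd] at hdim
  obtain ⟨T, i, -, h2, -, ⟨t, ht⟩, -, h4, h5, -, h6⟩ := UOpenLib.exists_quasiSection g x
    (fun x' _ hxx' => hxx'.mem_closed hxc' rfl) ζ (hζ.trans hx₀)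
    (hgζ ▸ (genericPoint_closure _)) hdim
  refine ⟨T, i, t, h2, h4, h5, h6, ?_⟩
  rw [Scheme.Hom.comp_apply, show i t = x from ht]
  exact hx

variable {B : Type u} [CommRing B] [HenselianLocalRing B] [IsNoetherianRing B]

/-- A finite scheme over `B` mapping to `X` and onto an irreducible component of the base. -/
theorem exists_finite_over_minimal {X : Scheme.{u}} (g : X ⟶ Spec (CommRingCat.of B)) [LocallyOfFiniteType g]
    [QuasiCompact g] [Surjective g] [UniversallyOpen g] (p : Ideal B) [p.IsPrime] :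
    ∃ (R : Type u) (_ : CommRing R) (b : B →+* R) (r : Spec (CommRingCat.of R) ⟶ X),
      b.Finite ∧ r ≫ g = Spec.map (CommRingCat.ofHom b) ∧
      (⟨p, ‹_›⟩ : PrimeSpectrum B) ∈ Set.range (Spec.map (CommRingCat.ofHom b)) := by
  let Q := B ⧸ p
  let q : Spec (CommRingCat.of Q) ⟶ Spec (CommRingCat.of B) := Spec.map (CommRingCat.ofHom (Ideal.Quotient.mk p))
  haveI : IsLocalRing Q := IsLocalRing.of_surjective' (Ideal.Quotient.mk p) Ideal.Quotient.mk_surjective
  haveI : IsClosedImmersion q := IsClosedImmersion.spec_of_surjective _ Ideal.Quotient.mk_surjective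
  haveI : UniversallyOpen (pullback.snd g q) := MorphismProperty.pullback_snd (P := @UniversallyOpen) _ _ ‹_›
  haveI : IrreducibleSpace ↥(Spec (CommRingCat.of Q)) := inferInstanceAs (IrreducibleSpace (PrimeSpectrum Q))
  obtain ⟨T, i, t, hT, hlft, hlqf, hdom, ht⟩ := exists_dominant_qf_through_closed (pullback.snd g q)
    (IsLocalRing.closedPoint Q) (IsLocalRing.isClosed_singleton_closedPoint Q)
  let g' : T ⟶ Spec (CommRingCat.of B) := (i ≫ pullback.fst g q) ≫ g
  have hg' : g' = (i ≫ pullback.snd g q) ≫ q := by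
    simp only [g', Category.assoc, pullback.condition]
  haveI : LocallyOfFiniteType g' := hg' ▸ inferInstance
  haveI : LocallyQuasiFinite g' := hg' ▸ inferInstance
  have htc : g' t = IsLocalRing.closedPoint B := by
    rw [hg', Scheme.Hom.comp_apply, ht]
    exact closedPoint_map_quot p
  obtain ⟨R, _, b, r, hb, hro, hrb, hrt⟩ := exists_finite_nhd g' t htc
  refine ⟨R, inferInstance, b, r ≫ i ≫ pullback.fst g q, hb, by rw [← hrb]; simp [g'], ?_⟩
  obtain ⟨y, hy⟩ := ((genericPoint_spec T).specializes (Set.mem_univ (r hrt.choose))).mem_open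
    r.isOpenEmbedding.isOpen_range ⟨_, rfl⟩
  refine ⟨y, ?_⟩
  rw [← hrb, Scheme.Hom.comp_apply, hy, hg', Scheme.Hom.comp_apply]
  have hgen : (i ≫ pullback.snd g q) (genericPoint T) = (⟨⊥, Ideal.isPrime_bot⟩ : PrimeSpectrum Q) := by
    have h1 := ((genericPoint_spec T).image (i ≫ pullback.snd g q).continuous)
    rw [Set.image_univ, (IsDominant.denseRange (f := i ≫ pullback.snd g q)).closure_range] at h1
    refine h1.eq ?_
    change closure {(⟨⊥, Ideal.isPrime_bot⟩ : PrimeSpectrum Q)} = Set.univ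
    rw [PrimeSpectrum.closure_singleton, PrimeSpectrum.zeroLocus_eq_univ_iff]
    simp
  rw [hgen]
  exact PrimeSpectrum.ext (by
    change Ideal.comap (Ideal.Quotient.mk p) ⊥ = p
    rw [← RingHom.ker_eq_comap_bot, Ideal.mk_ker])
where
  closedPoint_map_quot (p : Ideal B) [p.IsPrime] [IsLocalRing (B ⧸ p)] :
      Spec.map (CommRingCat.ofHom (Ideal.Quotient.mk p)) (IsLocalRing.closedPoint (B ⧸ p)) =
        IsLocalRing.closedPoint B :=
    PrimeSpectrum.ext (IsLocalRing.eq_maximalIdeal
      (Ideal.comap_isMaximal_of_surjective (Ideal.Quotient.mk p) Ideal.Quotient.mk_surjective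
        (K := IsLocalRing.maximalIdeal (B ⧸ p))))

/-- A universally open surjective morphism of finite type to a henselian Noetherian local scheme is refined by a
finite surjective one. -/
theorem exists_finite_surjective_refinement_of_open {X : Scheme.{u}}
    (g : X ⟶ Spec (CommRingCat.of B)) [LocallyOfFiniteType g] [QuasiCompact g] [Surjective g]
    [UniversallyOpen g] :
    ∃ (X' : Scheme.{u}) (r : X' ⟶ X), IsFinite (r ≫ g) ∧ Surjective (r ≫ g) := by
  classical
  haveI : Finite ↥(minimalPrimes B) := (minimalPrimes.finite_of_isNoetherianRing B).to_subtype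
  haveI : ∀ p : ↥(minimalPrimes B), p.1.IsPrime := fun p => p.2.1.1
  choose R iR b r hb hrb hrp using fun p : ↥(minimalPrimes B) => exists_finite_over_minimal g p.1
  let Rc : ↥(minimalPrimes B) → CommRingCat.{u} := fun x => CommRingCat.of (R x)
  let X' : Scheme.{u} := Spec (CommRingCat.of (∀ x, Rc x))
  let p' : X' ⟶ Spec (CommRingCat.of B) := Spec.map (CommRingCat.ofHom (Pi.ringHom b))
  let r' : X' ⟶ X := inv (sigmaSpec Rc) ≫ Sigma.desc r
  have hp : r' ≫ g = p' := by
    rw [Category.assoc, IsIso.inv_comp_eq]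
    refine Sigma.hom_ext _ _ fun x => ?_
    rw [← Category.assoc, Sigma.ι_desc, ι_sigmaSpec_assoc, hrb, ← Spec.map_comp]
    rfl
  haveI : IsFinite p' := by
    refine (IsFinite.SpecMap_iff _).2 ?_
    letI : ∀ x, Algebra B (Rc x) := fun x => (b x).toAlgebra
    haveI : ∀ x, Module.Finite B (Rc x) := hb
    exact (RingHom.finite_algebraMap (A := B) (B := ∀ x, Rc x)).2 inferInstance
  refine ⟨X', r', hp ▸ inferInstance, hp ▸ ⟨fun a => ?_⟩⟩
  obtain ⟨p, hp₁, hp₂⟩ := Ideal.exists_minimalPrimes_le (I := (⊥ : Ideal B)) (J := a.asIdeal) bot_le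
  obtain ⟨y, hy⟩ := hrp ⟨p, hp₁⟩
  have hmem : (⟨p, hp₁.1.1⟩ : PrimeSpectrum B) ∈ Set.range p' :=
    ⟨(Sigma.ι _ ⟨p, hp₁⟩ ≫ sigmaSpec Rc) y, by
      rw [ι_sigmaSpec, ← Scheme.Hom.comp_apply, ← Spec.map_comp]
      exact hy⟩
  exact ((PrimeSpectrum.le_iff_specializes _ _).1 (show (⟨p, hp₁.1.1⟩ : PrimeSpectrum B) ≤ a from hp₂)).mem_closed
    p'.isClosedMap.isClosed_range hmem

end SubmDescLib
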