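import Groth.Agent.SubmDescLib.Etale
import Groth.Agent.DescLib.Glue

/-!
# Étale quotients on stable opens glue
-/

set_option autoImplicit false
set_option linter.style.haveILetI false
set_option backward.isDefEq.respectTransparency false
set_option backward.isDefEq.respectTransparency.types false

universe u

open CategoryTheory CategoryTheory.Limits AlgebraicGeometry TopologicalSpace

namespace SubmDescLib

open Desc DescLib

variable {X S : Scheme.{u}} {p : X ⟶ S} {D : SchDD p}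

/-- A stable open with an étale quotient. -/
def GoodEt (D : SchDD p) (W : D.obj.left.Opens) : Prop :=
  Stable D (W : Set D.obj.left) ∧
    ∃ (U : Scheme.{u}) (g : U ⟶ S) (q : W.toScheme ⟶ U), Etale g ∧ IsQuot D W.ι g q

theorem univSubmersive_q (hp : SGA1.UnivSubmersive p) {Y U : Scheme.{u}} {j : Y ⟶ D.obj.left} {g : U ⟶ S}
    {q : Y ⟶ U} (hq : IsQuot D j g q) : SGA1.UnivSubmersive q :=
  MorphismProperty.of_isPullback (P := SGA1.UnivSubmersive) hq.isPullback.flip hp

theorem exists_desc_quot (hp : SGA1.UnivSubmersive p) {Y U : Scheme.{u}} {j : Y ⟶ D.obj.left} {g : U ⟶ S}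
    {q : Y ⟶ U} (hq : IsQuot D j g q) {Z B : Scheme.{u}} (z : Z ⟶ B) [Etale z] (v : U ⟶ B) (f : Y ⟶ Z)
    (w : f ≫ z = q ≫ v) (hf : ∀ ⦃T : Scheme.{u}⦄ (a b : T ⟶ Y), Rel D (a ≫ j) (b ≫ j) → a ≫ f = b ≫ f) :
    ∃ t : U ⟶ Z, t ≫ z = v ∧ q ≫ t = f :=
  SubmDescLib.exists_desc q (univSubmersive_q hp hq) z v f w (hf _ _ (hq.rel_of_eq pullback.condition))

theorem goodEt_of_isQuot {Y U : Scheme.{u}} {j : Y ⟶ D.obj.left} [IsOpenImmersion j] {g : U ⟶ S} [Etale g]
    {q : Y ⟶ U} (hq : IsQuot D j g q) : GoodEt D j.opensRange := by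
  refine ⟨hq.stable, U, g, (IsOpenImmersion.isoOfRangeEq j.opensRange.ι j ?_).hom ≫ q, inferInstance, ?_⟩
  · rw [Scheme.Opens.range_ι]; rfl
  · have := hq.of_iso (IsOpenImmersion.isoOfRangeEq j.opensRange.ι j (by rw [Scheme.Opens.range_ι]; rfl))
    rwa [IsOpenImmersion.isoOfRangeEq_hom_fac] at this

theorem GoodEt.of_le (hp : SGA1.UnivSubmersive p) {W W' : D.obj.left.Opens} (h : GoodEt D W) (hle : W' ≤ W)
    (hW' : Stable D (W' : Set D.obj.left)) : GoodEt D W' := by
  obtain ⟨-, U, g, q, hg, hq⟩ := h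
  haveI := hg
  have hsat : q ⁻¹' (q '' (W.ι ⁻¹' (W' : Set D.obj.left))) = W.ι ⁻¹' (W' : Set D.obj.left) := by
    refine subset_antisymm ?_ (Set.subset_preimage_image _ _)
    rintro y₂ ⟨y₁, hy₁, he⟩
    obtain ⟨z, hz₁, hz₂⟩ := Scheme.Pullback.exists_preimage_pullback (f := q) (g := q) y₁ y₂ he
    have := hW' _ _ (hq.rel_of_eq (pullback.condition (f := q) (g := q))) z
      (by rw [Scheme.Hom.comp_apply, hz₁]; exact hy₁)
    rwa [Scheme.Hom.comp_apply, hz₂] at this
  let O : U.Opens := ⟨q '' (W.ι ⁻¹' (W' : Set D.obj.left)), by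
    rw [← (FFDescLib.isQuotientMap_of_univSubmersive (univSubmersive_q hp hq)).isOpen_preimage, hsat]
    exact W'.2.preimage W.ι.continuous⟩
  let j₁ : (q ⁻¹ᵁ O).toScheme ⟶ D.obj.left := (q ⁻¹ᵁ O).ι ≫ W.ι
  have hrange : Set.range j₁ = (W' : Set D.obj.left) := by
    rw [show ⇑j₁ = W.ι ∘ (q ⁻¹ᵁ O).ι from funext fun y => Scheme.Hom.comp_apply (q ⁻¹ᵁ O).ι W.ι y, Set.range_comp,
      Scheme.Opens.range_ι]
    change W.ι '' (q ⁻¹' (q '' (W.ι ⁻¹' (W' : Set D.obj.left)))) = _
    rw [hsat, Set.image_preimage_eq_of_subset (by rw [Scheme.Opens.range_ι]; exact hle)]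
  have h₁ : IsQuot D j₁ (O.ι ≫ g) (q ∣_ O) := by
    refine ⟨fun T a b hr => ?_, fun T a c hr => Stable.exists_lift (hrange ▸ hW') a c hr, ?_⟩
    · rw [← cancel_mono O.ι, Category.assoc, Category.assoc, morphismRestrict_ι, ← Category.assoc,
        ← Category.assoc]
      exact hq.rel _ _ (by simpa only [j₁, Category.assoc] using hr)
    · have := (isPullback_morphismRestrict q O).paste_vert hq.isPullback
      rwa [show j₁ ≫ D.obj.hom = (q ⁻¹ᵁ O).ι ≫ W.ι ≫ D.obj.hom from Category.assoc _ _ _]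
  haveI : Etale (O.ι ≫ g) := inferInstance
  have hr : j₁.opensRange = W' := Opens.ext hrange
  exact hr ▸ goodEt_of_isQuot h₁

theorem GoodEt.inf (hp : SGA1.UnivSubmersive p) {W W' : D.obj.left.Opens} (h : GoodEt D W) (h' : GoodEt D W') :
    GoodEt D (W ⊓ W') :=
  h.of_le hp inf_le_left (h.1.inter h'.1)

variable (D) in
theorem exists_isQuot_glue (hp : SGA1.UnivSubmersive p)
    (h : ∀ v : D.obj.left, ∃ W : D.obj.left.Opens, v ∈ W ∧ GoodEt D W) :
    ∃ (U : Scheme.{u}) (g : U ⟶ S) (q : D.obj.left ⟶ U), Etale g ∧ IsQuot D (𝟙 _) g q := by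
  let J : Type u := {W : D.obj.left.Opens // GoodEt D W}
  choose Uo go qo hgo hqo using fun W : J => W.2.2
  haveI : ∀ W : J, Etale (go W) := hgo
  haveI hsur : ∀ W : J, Surjective (qo W) := fun W => surjective_of_univSubmersive (univSubmersive_q hp (hqo W))
  have ht : ∀ {a b : J} (hab : a ≤ b), ∃ t : Uo a ⟶ Uo b, qo a ≫ t = D.obj.left.homOfLE hab ≫ qo b ∧ t ≫ go b = go a := fun {a b} hab =>
    (exists_desc_quot hp (hqo a) (go b) (go a) _ (by
      rw [Category.assoc, (hqo b).w, (hqo a).w, Scheme.homOfLE_ι_assoc]) fun T x y r => by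
      rw [← Category.assoc, ← Category.assoc]
      refine (hqo b).rel _ _ ?_
      simpa only [Category.assoc, Scheme.homOfLE_ι] using r).imp fun _ h => ⟨h.2, h.1⟩
  choose t ht htg using @ht
  have hext : ∀ {a b : J} {f f' : Uo a ⟶ Uo b}, f ≫ go b = f' ≫ go b → qo a ≫ f = qo a ≫ f' → f = f' :=
    fun {a b} {f f'} w e => SubmDescLib.hom_ext (qo _) (go _) w e
  let F : J ⥤ Scheme.{u} :=
    { obj := Uo
      map := fun {a b} f => t (leOfHom f)
      map_id := fun a => by
        refine hext (by rw [htg, Category.id_comp]) ?_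
        rw [ht, Category.comp_id]
        simp
      map_comp := fun {a b c} f f' => by
        refine hext (by rw [Category.assoc, htg, htg, htg]) ?_
        rw [ht, ← Category.assoc, ht (leOfHom f), Category.assoc, ht (leOfHom f'), Scheme.homOfLE_homOfLE_assoc] }
  have hg : ∀ {a b : J} (hab : a ≤ b), t hab ≫ go b = go a := fun hab => htg hab
  have hsq : ∀ {a b : J} (hab : a ≤ b), IsPullback (qo a) (D.obj.left.homOfLE hab) (t hab) (qo b) := by
    intro a b hab
    refine IsPullback.of_bot ?_ (ht hab) (hqo b).isPullback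
    rw [hg hab, ← Category.assoc, Scheme.homOfLE_ι]
    exact (hqo a).isPullback
  haveI hopen : ∀ {a b : J} (f : a ⟶ b), IsOpenImmersion (F.map f) := fun {a b} f => by
    change IsOpenImmersion (t (leOfHom f))
    haveI : Etale (t (leOfHom f) ≫ go b) := by rw [htg]; infer_instance
    haveI : Etale (t (leOfHom f)) := Etale.of_comp _ (go b)
    haveI : Surjective (qo b) := hsur b
    haveI : UniversallyInjective (t (leOfHom f)) :=
      universallyInjective_of_isPullback (hsq (leOfHom f)).flip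
    haveI : Surjective (pullback.diagonal (t (leOfHom f))) := (UniversallyInjective.iff_diagonal _).1 inferInstance
    haveI : IsIso (pullback.diagonal (t (leOfHom f))) :=
      (isIso_iff_isOpenImmersion_and_surjective _).2 ⟨inferInstance, inferInstance⟩
    haveI : Mono (t (leOfHom f)) := (pullback.isIso_diagonal_iff _).1 inferInstance
    exact IsOpenImmersion.of_flat_of_mono _
  haveI hdir : (F ⋙ Scheme.forget).IsLocallyDirected := ⟨by
    intro a b c fa fb (u₁ : Uo a) (u₂ : Uo b) (e : t (leOfHom fa) u₁ = t (leOfHom fb) u₂)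
    obtain ⟨v, hv⟩ := (qo c).surjective (t (leOfHom fa) u₁)
    obtain ⟨y₁, hy₁, hy₁'⟩ := exists_of_isPullback (hsq (leOfHom fa)) hv.symm
    obtain ⟨y₂, hy₂, hy₂'⟩ := exists_of_isPullback (hsq (leOfHom fb)) (e.symm.trans hv.symm)
    let d : J := ⟨a.1 ⊓ b.1, a.2.inf hp b.2⟩
    have hc : (c.1.ι v : D.obj.left) ∈ d.1 := by
      refine ⟨?_, ?_⟩
      · rw [← hy₁', ← Scheme.Hom.comp_apply, Scheme.homOfLE_ι]; exact y₁.2
      · rw [← hy₂', ← Scheme.Hom.comp_apply, Scheme.homOfLE_ι]; exact y₂.2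
    have hda : d ≤ a := inf_le_left (a := a.1) (b := b.1)
    have hdb : d ≤ b := inf_le_right (a := a.1) (b := b.1)
    have key : ∀ {k : J} (hdk : d ≤ k) (y : k.1.toScheme), k.1.ι y = c.1.ι v →
        t hdk (qo d ⟨_, hc⟩) = qo k y := by
      intro k hdk y hy
      rw [← Scheme.Hom.comp_apply, ht, Scheme.Hom.comp_apply]
      congr 1
      apply k.1.ι.isOpenEmbedding.injective
      rw [← Scheme.Hom.comp_apply, Scheme.homOfLE_ι, hy]
      rfl
    refine ⟨d, homOfLE hda, homOfLE hdb, qo d ⟨_, hc⟩, ?_, ?_⟩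
    · refine (key hda y₁ ?_).trans hy₁
      rw [← hy₁', ← Scheme.Hom.comp_apply, Scheme.homOfLE_ι]
    · refine (key hdb y₂ ?_).trans hy₂
      rw [← hy₂', ← Scheme.Hom.comp_apply, Scheme.homOfLE_ι]⟩
  let U := colimit F
  let ιU : ∀ a : J, Uo a ⟶ U := colimit.ι F
  have hιU : ∀ {a b : J} (hab : a ≤ b), t hab ≫ ιU b = ιU a := fun hab => colimit.w F (homOfLE hab)
  let g : U ⟶ S := colimit.desc F ⟨S, ⟨go, fun a b f => (hg (leOfHom f)).trans (Category.comp_id _).symm⟩⟩
  have hgι : ∀ a : J, ιU a ≫ g = go a := fun a => colimit.ι_desc _ _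
  let 𝒱 : D.obj.left.OpenCover := D.obj.left.openCoverOfIsOpenCover (fun a : J => a.1)
    (IsOpenCover.mk (eq_top_iff.mpr fun v _ => by
      obtain ⟨W, hv, hW⟩ := h v
      exact Opens.mem_iSup.mpr ⟨⟨W, hW⟩, hv⟩))
  let q : D.obj.left ⟶ U := 𝒱.glueMorphisms (fun a => qo a ≫ ιU a) fun (a : J) (b : J) => by
    let d : J := ⟨a.1 ⊓ b.1, a.2.inf hp b.2⟩
    have hda : d ≤ a := inf_le_left (a := a.1) (b := b.1)
    have hdb : d ≤ b := inf_le_right (a := a.1) (b := b.1)
    change pullback.fst a.1.ι b.1.ι ≫ qo a ≫ ιU a = pullback.snd a.1.ι b.1.ι ≫ qo b ≫ ιU b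
    have hp := isPullback_opens_inf a.1 b.1
    let l := hp.lift (pullback.fst a.1.ι b.1.ι) (pullback.snd a.1.ι b.1.ι) pullback.condition
    have e₁ : l ≫ _ = pullback.fst a.1.ι b.1.ι := hp.lift_fst _ _ _
    have e₂ : l ≫ _ = pullback.snd a.1.ι b.1.ι := hp.lift_snd _ _ _
    refine ((reassoc_of% e₁) _).symm.trans (Eq.trans ?_ ((reassoc_of% e₂) _))
    change _ ≫ D.obj.left.homOfLE hda ≫ _ = _ ≫ D.obj.left.homOfLE hdb ≫ _
    rw [← reassoc_of% (ht hda), ← reassoc_of% (ht hdb), hιU, hιU]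
  have hqι : ∀ a : J, a.1.ι ≫ q = qo a ≫ ιU a := fun a => 𝒱.ι_glueMorphisms _ _ a
  haveI : ∀ a : J, IsOpenImmersion (ιU a) := fun a => inferInstanceAs (IsOpenImmersion (colimit.ι F a))
  have hpre : ∀ a : J, q ⁻¹ᵁ (ιU a).opensRange = a.1.ι.opensRange := by
    intro a
    rw [Scheme.Opens.opensRange_ι]
    refine Opens.ext (Set.ext fun v => ⟨?_, fun hv => ?_⟩)
    · rintro ⟨u, hu⟩
      obtain ⟨W, hvW, hW⟩ := h v
      have e : ιU ⟨W, hW⟩ (qo ⟨W, hW⟩ ⟨v, hvW⟩) = ιU a u := by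
        rw [← Scheme.Hom.comp_apply, ← hqι, Scheme.Hom.comp_apply]
        exact hu.symm
      obtain ⟨k, fi, fj, x, hx, -⟩ := (Scheme.IsLocallyDirected.ι_eq_ι_iff F).mp e
      obtain ⟨y, -, hy⟩ := exists_of_isPullback (hsq (leOfHom fi)) (a := x) (b := ⟨v, hvW⟩) hx
      have hyv : k.1.ι y = v := by
        rw [← Scheme.homOfLE_ι _ (leOfHom fi), Scheme.Hom.comp_apply, hy]; rfl
      exact (leOfHom fj) (hyv ▸ y.2)
    · refine ⟨qo a ⟨v, hv⟩, ?_⟩
      rw [← Scheme.Hom.comp_apply, ← hqι]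
      rfl
  have hqg : q ≫ g = D.obj.hom ≫ p := 𝒱.hom_ext _ _ fun (a : J) => by
    change a.1.ι ≫ q ≫ g = a.1.ι ≫ D.obj.hom ≫ p
    rw [reassoc_of% (hqι a), hgι, (hqo a).w]
  have hsqU : ∀ a : J, IsPullback (qo a) a.1.ι (ιU a) q := fun a =>
    IsOpenImmersion.isPullback _ _ _ _ (hqι a) (hpre a)
  let k : D.obj.left ⟶ pullback g p := pullback.lift q D.obj.hom hqg
  haveI : IsIso k := by
    refine IsZariskiLocalAtTarget.of_openCover (P := MorphismProperty.isomorphisms Scheme)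
      ((Scheme.IsLocallyDirected.openCover F).pullback₁ (pullback.fst g p)) fun (a : J) => ?_
    change IsIso (pullback.snd k (pullback.fst (pullback.fst g p) (ιU a)))
    have rig := (IsPullback.of_hasPullback (pullback.fst g p) (ιU a)).flip
    have hbig : IsPullback (pullback.snd (pullback.fst g p) (ιU a))
        (pullback.fst (pullback.fst g p) (ιU a) ≫ pullback.snd g p) (go a) p := by
      rw [← hgι a]
      exact rig.paste_vert (IsPullback.of_hasPullback g p)
    let ka : a.1.toScheme ≅ pullback (pullback.fst g p) (ιU a) := (hqo a).isPullback.isoIsPullback _ _ hbig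
    have e₁ : ka.hom ≫ pullback.snd (pullback.fst g p) (ιU a) = qo a :=
      IsPullback.isoIsPullback_hom_fst _ _ _ _
    have e₂ : ka.hom ≫ pullback.fst (pullback.fst g p) (ιU a) ≫ pullback.snd g p = a.1.ι ≫ D.obj.hom :=
      IsPullback.isoIsPullback_hom_snd _ _ _ _
    have comm : a.1.ι ≫ k = ka.hom ≫ pullback.fst (pullback.fst g p) (ιU a) := by
      apply pullback.hom_ext
      · rw [Category.assoc, Category.assoc, pullback.lift_fst, hqι, pullback.condition, reassoc_of% e₁]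
      · rw [Category.assoc, Category.assoc, pullback.lift_snd, e₂]
    have big : IsPullback (ka.hom ≫ pullback.snd (pullback.fst g p) (ιU a)) a.1.ι (ιU a) (k ≫ pullback.fst g p) := by
      rw [e₁, pullback.lift_fst]
      exact hsqU a
    have sq := (IsPullback.of_right big comm.symm rig).flip
    rw [← sq.isoPullback_inv_snd]
    infer_instance
  haveI : Etale g := IsZariskiLocalAtSource.of_openCover (P := @Etale) (Scheme.IsLocallyDirected.openCover F)
    fun (a : J) => by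
      change Etale (colimit.ι F a ≫ g)
      rw [show colimit.ι F a ≫ g = go a from hgι a]
      exact hgo a
  refine ⟨U, g, q, inferInstance, ⟨fun T x y r => ?_, fun T x c _ => ⟨c, Category.comp_id c⟩, ?_⟩⟩
  · rw [Category.comp_id, Category.comp_id] at r
    refine (T.openCoverOfIsOpenCover (fun a : J => x ⁻¹ᵁ a.1) (IsOpenCover.mk (eq_top_iff.mpr fun s _ => by
      obtain ⟨W, hv, hW⟩ := h (x s)
      exact Opens.mem_iSup.mpr ⟨⟨W, hW⟩, hv⟩))).hom_ext _ _ fun (a : J) => ?_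
    change (x ⁻¹ᵁ a.1).ι ≫ x ≫ q = (x ⁻¹ᵁ a.1).ι ≫ y ≫ q
    have hr := r.comp (x ⁻¹ᵁ a.1).ι
    rw [← morphismRestrict_ι x a.1] at hr
    obtain ⟨y', hy'⟩ := (hqo a).lift _ _ hr
    rw [← hy'] at hr
    rw [← reassoc_of% (morphismRestrict_ι x a.1), ← reassoc_of% hy', hqι, ← Category.assoc, ← Category.assoc,
      (hqo a).rel _ _ hr]
  · rw [Category.id_comp]
    exact (IsPullback.of_hasPullback g p).of_iso (asIso k).symm (Iso.refl _) (Iso.refl _) (Iso.refl _)
      (by simp [k]) (by simp [k]) (by simp) (by simp)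


end SubmDescLib
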