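import Groth.Agent.SubmDescLib.Sections
import Groth.Agent.SubmDescLib.GlueStable

/-!
# Étale quotients near the closed fibre of a finite morphism to a henselian local scheme
-/

set_option autoImplicit false
set_option linter.style.haveILetI false
set_option backward.isDefEq.respectTransparency false
set_option backward.isDefEq.respectTransparency.types false

universe u

open CategoryTheory CategoryTheory.Limits AlgebraicGeometry TopologicalSpace

namespace SubmDescLib

open Desc DescLib

theorem isClosed_singleton_of_lqf {X Y : Scheme.{u}} (h : X ⟶ Y) [LocallyQuasiFinite h] (x : X)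
    (hx : IsClosed ({h x} : Set Y)) : IsClosed ({x} : Set X) := by
  haveI : DiscreteTopology ↥(h ⁻¹' {h x}) := (h.isDiscrete_preimage_singleton (h x)).to_subtype
  have hF : IsClosed (h ⁻¹' {h x}) := hx.preimage h.continuous
  refine isClosed_of_closure_subset fun w hw => ?_
  have hwF : w ∈ h ⁻¹' {h x} := (hF.closure_subset_iff.2 (Set.singleton_subset_iff.2 rfl)) hw
  have : (⟨x, rfl⟩ : ↥(h ⁻¹' {h x})) ⤳ ⟨w, hwF⟩ :=
    Topology.IsInducing.subtypeVal.specializes_iff.1 (specializes_iff_mem_closure.2 hw)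
  exact (congrArg Subtype.val (specializes_iff_eq.1 this)).symm

theorem image_eq_closedPoint {Y : Scheme.{u}} {B : Type u} [CommRing B] [IsLocalRing B]
    (h : Y ⟶ Spec (CommRingCat.of B)) (hh : IsClosedMap h) (y : Y) (hy : IsClosed ({y} : Set Y)) :
    h y = IsLocalRing.closedPoint B := by
  have hc : IsClosed ({h y} : Set (Spec (CommRingCat.of B))) := by simpa using hh _ hy
  exact ((IsLocalRing.specializes_closedPoint (h y)).mem_closed hc rfl).symm

/-- Morphisms to an unramified scheme agreeing at all closed points of a quasi-compact scheme agree. -/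
theorem hom_ext_closedPoints {P Y X : Scheme.{u}} [CompactSpace P] (v : Y ⟶ X) [FormallyUnramified v]
    [LocallyOfFiniteType v] {c c' : P ⟶ Y} (w : c ≫ v = c' ≫ v)
    (e : ∀ y : P, IsClosed ({y} : Set P) → ∃ (T : Scheme.{u}) (l : T ⟶ P), y ∈ Set.range l ∧ l ≫ c = l ≫ c') :
    c = c' := by
  haveI : IsOpenImmersion (pullback.snd (pullback.diagonal v) (pullback.lift c c' w)) :=
    MorphismProperty.pullback_snd (P := @IsOpenImmersion) _ _ inferInstance
  let ι := pullback.snd (pullback.diagonal v) (pullback.lift c c' w)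
  haveI : Surjective ι := by
    refine ⟨fun x => ?_⟩
    by_contra hx
    obtain ⟨y, hy, hyc⟩ := IsClosed.exists_closed_singleton (ι.isOpenEmbedding.isOpen_range.isClosed_compl)
      ⟨x, hx⟩
    obtain ⟨T, l, ⟨t, rfl⟩, hl⟩ := e y hyc
    let m : T ⟶ pullback (pullback.diagonal v) (pullback.lift c c' w) := pullback.lift (l ≫ c) l (by
      apply pullback.hom_ext
      · simp
      · simp [hl])
    exact hy ⟨m t, by rw [← Scheme.Hom.comp_apply, pullback.lift_snd]⟩
  haveI : IsIso ι := (isIso_iff_isOpenImmersion_and_surjective _).2 ⟨inferInstance, inferInstance⟩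
  rw [← cancel_epi ι]
  have k := pullback.condition (f := pullback.diagonal v) (g := pullback.lift c c' w)
  have c₁ := congrArg (· ≫ pullback.fst v v) k
  have c₂ := congrArg (· ≫ pullback.snd v v) k
  simp only [Category.assoc, pullback.diagonal_fst, pullback.diagonal_snd, pullback.lift_fst,
    pullback.lift_snd, Category.comp_id] at c₁ c₂
  exact c₁.symm.trans c₂

/-- A finite scheme over a henselian local ring is a finite coproduct of henselian local schemes. -/
theorem exists_cover_henselian {B : Type u} [CommRing B] [HenselianLocalRing B] {X : Scheme.{u}}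
    (g : X ⟶ Spec (CommRingCat.of B)) [IsFinite g] :
    ∃ (ι : Type u) (_ : Fintype ι) (L : ι → Type u) (_ : ∀ i, CommRing (L i)) (θ : (∐ fun i => Spec (CommRingCat.of (L i))) ≅ X),
      ∀ i, HenselianLocalRing (L i) ∧
        IsFinite (Sigma.ι (fun i => Spec (CommRingCat.of (L i))) i ≫ θ.hom ≫ g) := by
  haveI : IsAffine X := isAffine_of_isAffineHom g
  let φ : CommRingCat.of B ⟶ Γ(X, ⊤) := Spec.preimage (X.isoSpec.inv ≫ g)
  haveI : IsFinite (Spec.map φ) := by rw [Spec.map_preimage]; infer_instance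
  have hφ : φ.hom.Finite := (IsFinite.SpecMap_iff φ).1 inferInstance
  letI : Algebra B Γ(X, ⊤) := φ.hom.toAlgebra
  haveI : Module.Finite B Γ(X, ⊤) := hφ
  obtain ⟨ι, _, L, _, hL, ⟨e⟩⟩ := HenselLib.exists_pi_local (R := B) Γ(X, ⊤)
  refine ⟨ι, inferInstance, L, inferInstance,
    asIso (sigmaSpec fun i => CommRingCat.of (L i)) ≪≫ (Scheme.Spec.mapIso e.toCommRingCatIso.op) ≪≫ X.isoSpec.symm,
    fun i => ⟨?_, ?_⟩⟩
  swap
  · rw [Iso.trans_hom, Iso.trans_hom, asIso_hom, Category.assoc, Category.assoc, ι_sigmaSpec_assoc]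
    haveI : IsClosedImmersion (Spec.map (CommRingCat.ofHom (Pi.evalRingHom L i))) :=
      IsClosedImmersion.spec_of_surjective _ (Function.surjective_eval i)
    infer_instance
  haveI := hL i
  let m := IsLocalRing.maximalIdeal B
  let b : B →+* L i := ((Pi.evalRingHom L i).comp e.toRingHom).comp φ.hom
  have hb : b.Finite := (RingHom.Finite.of_surjective _
    ((Function.surjective_eval i).comp e.surjective)).comp hφ
  letI : Algebra B (L i) := b.toAlgebra
  haveI : Module.Finite B (L i) := hb
  haveI h₁ : HenselianRing (L i) (m.map (algebraMap B (L i))) := HenselLib.henselianRing_map_of_isIntegral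
  haveI : HenselianRing (L i) (IsLocalRing.maximalIdeal (L i)) := by
    refine HenselLib.henselianRing_of_le_radical (J := m.map (algebraMap B (L i))) ?_
    rw [Ideal.radical_eq_sInf]
    refine le_sInf fun P ⟨hP, hPp⟩ => ?_
    haveI := hPp
    have hPm : P.comap (algebraMap B (L i)) = m :=
      ((IsLocalRing.maximalIdeal.isMaximal B).eq_of_le (Ideal.IsPrime.comap _).ne_top
        (Ideal.map_le_iff_le_comap.1 hP)).symm
    haveI : (P.comap (algebraMap B (L i))).IsMaximal := hPm ▸ IsLocalRing.maximalIdeal.isMaximal B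
    exact (IsLocalRing.eq_maximalIdeal (Ideal.isMaximal_of_isIntegral_of_isMaximal_comap P this)).ge
  exact HenselLib.henselianLocalRing_of_henselianRing

variable {B : Type u} [CommRing B] [HenselianLocalRing B] [IsAlgClosed (IsLocalRing.ResidueField B)]
  {X : Scheme.{u}} {g : X ⟶ Spec (CommRingCat.of B)} [IsFinite g] (D : SchDD g)
  [Etale D.obj.hom]

theorem exists_goodEt_closedFibre (v : D.obj.left)
    (hv : (D.obj.hom ≫ g) v = IsLocalRing.closedPoint B) :
    ∃ W : D.obj.left.Opens, v ∈ W ∧ GoodEt D W := by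
  classical
  let S := Spec (CommRingCat.of B)
  let k := IsLocalRing.ResidueField B
  let κ : Spec (CommRingCat.of k) ⟶ S := Spec.map (CommRingCat.ofHom (IsLocalRing.residue B))
  haveI : IsClosedImmersion κ := IsClosedImmersion.spec_of_surjective _ Ideal.Quotient.mk_surjective
  have hκ : ∀ s : ↥(Spec (CommRingCat.of k)), κ s = IsLocalRing.closedPoint B :=
    closedPoint_map _ Ideal.Quotient.mk_surjective
  have hrκ : IsLocalRing.closedPoint B ∈ Set.range κ := ⟨IsLocalRing.closedPoint k, hκ _⟩
  let π := D.obj.hom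
  haveI : LocallyQuasiFinite π := DescLib.lqf_of_unramified _
  obtain ⟨z, hz, hzv⟩ := exists_kpoint (π ≫ g) κ v (hv ▸ hrκ)
    (isClosed_singleton_of_lqf (π ≫ g) v (hv.symm ▸ IsLocalRing.isClosed_singleton_closedPoint B))
  obtain ⟨ι, _, L, _, θ, hL⟩ := exists_cover_henselian g
  haveI : ∀ i, HenselianLocalRing (L i) := fun i => (hL i).1
  let j : ∀ i, Spec (CommRingCat.of (L i)) ⟶ X := fun i => Sigma.ι (fun i => Spec (CommRingCat.of (L i))) i ≫ θ.hom
  -- the points of the pieces over the closed point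
  have hψ : ∀ (i : ι) (t : Spec (CommRingCat.of k) ⟶ Spec (CommRingCat.of (L i))), t ≫ j i ≫ g = κ →
      Function.Surjective (Spec.preimage t).hom := by
    intro i t ht
    let b := Spec.preimage (j i ≫ g)
    have h1 : b ≫ Spec.preimage t = CommRingCat.ofHom (IsLocalRing.residue B) := Spec.map_injective (by
      rw [Spec.map_comp, Spec.map_preimage, Spec.map_preimage, ht])
    have h2 : Function.Surjective ((Spec.preimage t).hom ∘ b.hom) := by
      rw [← RingHom.coe_comp, ← CommRingCat.hom_comp, h1]; exact Ideal.Quotient.mk_surjective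
    exact h2.of_comp
  have hpt : ∀ (i : ι) (t : Spec (CommRingCat.of k) ⟶ Spec (CommRingCat.of (L i))), t ≫ j i ≫ g = κ →
      t (IsLocalRing.closedPoint k) = IsLocalRing.closedPoint (L i) := by
    intro i t ht
    have h := closedPoint_map (Spec.preimage t).hom (hψ i t ht) (IsLocalRing.closedPoint k)
    rwa [CommRingCat.ofHom_hom, Spec.map_preimage] at h
  have hjf : ∀ i, IsFinite (j i ≫ g) := fun i => by
    have e : j i ≫ g = Sigma.ι (fun i => Spec (CommRingCat.of (L i))) i ≫ θ.hom ≫ g := Category.assoc _ _ _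
    rw [e]; exact (hL i).2
  have htex : ∀ i, ∃ t : Spec (CommRingCat.of k) ⟶ Spec (CommRingCat.of (L i)), t ≫ j i ≫ g = κ := by
    intro i
    haveI := hjf i
    have hc := image_eq_closedPoint (j i ≫ g) (j i ≫ g).isClosedMap _
      (IsLocalRing.isClosed_singleton_closedPoint (L i))
    obtain ⟨t, ht, -⟩ := exists_kpoint (j i ≫ g) κ _ (hc ▸ hrκ) (IsLocalRing.isClosed_singleton_closedPoint (L i))
    exact ⟨t, ht⟩
  choose t ht using htex
  have hzi : ∀ i, ∃ c, c ≫ π = t i ≫ j i ∧ Rel D z c := fun i =>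
    exists_rel z _ (by rw [Category.assoc, hz, Category.assoc, ht])
  choose zi hzi hzir using hzi
  have hsec : ∀ i, ∃ σ : Spec (CommRingCat.of (L i)) ⟶ D.obj.left, σ ≫ π = j i ∧ t i ≫ σ = zi i := by
    intro i
    haveI := (hL i).1
    haveI : Etale (pullback.snd π (j i)) := MorphismProperty.pullback_snd (P := @Etale) _ _ ‹_›
    obtain ⟨σ, hσ₁, hσ₂⟩ := exists_hensel_section (Spec.preimage (t i)).hom (hψ i _ (ht i))
      (pullback.snd π (j i)) (pullback.lift (zi i) (t i) (hzi i))
      (by rw [pullback.lift_snd, CommRingCat.ofHom_hom, Spec.map_preimage])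
    refine ⟨σ ≫ pullback.fst _ _, by rw [Category.assoc, pullback.condition, reassoc_of% hσ₁], ?_⟩
    rw [CommRingCat.ofHom_hom, Spec.map_preimage] at hσ₂
    rw [reassoc_of% hσ₂, pullback.lift_fst]
  choose σ hσ hσt using hsec
  let s : X ⟶ D.obj.left := θ.inv ≫ Sigma.desc σ
  have hjs : ∀ i, j i ≫ s = σ i := fun i => by simp [j, s]
  have hs : s ≫ π = 𝟙 X := by
    rw [← cancel_epi θ.hom]
    refine Sigma.hom_ext _ _ fun i => ?_
    change Sigma.ι _ i ≫ θ.hom ≫ s ≫ π = Sigma.ι _ i ≫ θ.hom ≫ 𝟙 X
    rw [Category.comp_id, ← Category.assoc, ← Category.assoc]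
    change (j i ≫ s) ≫ π = j i
    rw [hjs, hσ]
  -- the section follows the orbit of `z`
  have horb : ∀ x : Spec (CommRingCat.of k) ⟶ X, x ≫ g = κ → Rel D z (x ≫ s) := by
    intro x hx
    obtain ⟨i, y, hy⟩ := (sigmaOpenCover fun i => Spec (CommRingCat.of (L i))).exists_eq
      (θ.inv (x (IsLocalRing.closedPoint k)))
    haveI : IsOpenImmersion (j i) := inferInstance
    have hr : Set.range x ⊆ Set.range (j i) := by
      rintro _ ⟨a, rfl⟩
      refine ⟨y, ?_⟩
      rw [Subsingleton.elim a (IsLocalRing.closedPoint k), Scheme.Hom.comp_apply]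
      change θ.hom ((sigmaOpenCover fun i => Spec (CommRingCat.of (L i))).f i y) = _
      rw [hy, ← Scheme.Hom.comp_apply, Iso.inv_hom_id]
      rfl
    let x' := IsOpenImmersion.lift (j i) x hr
    have hx' : x' ≫ j i = x := IsOpenImmersion.lift_fac _ _ _
    haveI := hjf i
    have hx'g : x' ≫ j i ≫ g = κ := by rw [reassoc_of% hx', hx]
    have : x' = t i := kpoint_ext (j i ≫ g) κ hx'g (ht i) (by rw [hpt i _ hx'g, hpt i _ (ht i)])
    rw [← hx', this, Category.assoc, hjs, hσt]
    exact hzir i
  haveI : IsOpenImmersion s := FFDescLib.isOpenImmersion_of_section π s hs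
  -- stability
  let p₁ := pullback.fst g g
  let p₂ := pullback.snd g g
  obtain ⟨c₀, hc₀, hr₀⟩ := exists_rel (p₁ ≫ s) p₂ (D := D) (by
    rw [Category.assoc p₁, hs, Category.comp_id]; exact pullback.condition)
  haveI : QuasiCompact (p₁ ≫ g) := inferInstance
  haveI : CompactSpace ↥(pullback g g) := QuasiCompact.compactSpace_of_compactSpace (p₁ ≫ g)
  have hc : c₀ = p₂ ≫ s := by
    refine hom_ext_closedPoints π (by rw [hc₀, Category.assoc, hs, Category.comp_id]) fun y hy => ?_
    have hyc := image_eq_closedPoint (p₁ ≫ g) (p₁ ≫ g).isClosedMap y hy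
    obtain ⟨w, hw, hwy⟩ := exists_kpoint (p₁ ≫ g) κ y (hyc ▸ hrκ) hy
    refine ⟨_, w, ⟨_, hwy⟩, ?_⟩
    have r₁ : Rel D ((w ≫ p₁) ≫ s) (w ≫ c₀) := by simpa only [Category.assoc] using hr₀.comp w
    have r₂ := horb (w ≫ p₁) (by rwa [Category.assoc])
    have r₃ := horb (w ≫ p₂) (by rw [Category.assoc, ← pullback.condition]; exact hw)
    rw [← Category.assoc]
    exact ((r₂.trans r₁).symm.trans r₃).eq (by simp only [Category.assoc]; rw [hc₀, hs, Category.comp_id])
  have hs' : s ≫ D.obj.hom = 𝟙 X := hs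
  have hquot : IsQuot D s (𝟙 _) g := by
    refine ⟨fun T a b r => ?_, fun T a c r => ⟨c ≫ π, ?_⟩, ?_⟩
    · have := r.1
      simpa only [Category.assoc, reassoc_of% hs', π] using this
    · have h1 : a ≫ g = (c ≫ π) ≫ g := by simpa only [Category.assoc, reassoc_of% hs', π] using r.1
      have r' := hr₀.comp (pullback.lift a (c ≫ π) h1)
      rw [pullback.lift_fst_assoc] at r'
      have := (r'.symm.trans r).eq (by rw [Category.assoc, hc₀, pullback.lift_snd])
      rw [hc, pullback.lift_snd_assoc] at this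
      exact this
    · haveI : IsIso (s ≫ D.obj.hom) := by rw [hs]; infer_instance
      exact IsPullback.of_vert_isIso ⟨by rw [hs, Category.id_comp, Category.comp_id]⟩
  refine ⟨s.opensRange, ?_, goodEt_of_isQuot hquot⟩
  have hzs : z = (z ≫ π) ≫ s := (horb (z ≫ π) (by rwa [Category.assoc])).eq (by
    simp only [Category.assoc]; rw [hs, Category.comp_id])
  exact ⟨(z ≫ π) (IsLocalRing.closedPoint k), by rw [← Scheme.Hom.comp_apply, ← hzs, hzv]⟩

end SubmDescLib
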