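import Groth.Agent.SubmDescLib.QAt
import Groth.Agent.AlgSpLib.Sep
import Groth.Agent.DescLib.QAff
import Groth.Agent.DescFP.Main
import Groth.Agent.DescFP.Hom
import Groth.Agent.RichLib.LimitDescentFlat
import Groth.Agent.RichLib.LimitDescentProps

/-!
# Étale quotients descend along affine limits
-/

set_option autoImplicit false
set_option linter.style.haveILetI false
set_option backward.isDefEq.respectTransparency false
set_option backward.isDefEq.respectTransparency.types false

universe u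

open CategoryTheory CategoryTheory.Limits AlgebraicGeometry RichLib.LimBC

noncomputable section

namespace SubmDescLib

open Desc DescLib

theorem quasiSeparatedSpace_of_surjective {V U : Scheme.{u}} (q : V ⟶ U) [Surjective q] [QuasiCompact q]
    [QuasiSeparatedSpace V] : QuasiSeparatedSpace U := by
  refine ⟨fun O₁ O₂ ho₁ hc₁ ho₂ hc₂ => ?_⟩
  have h₁ := (inferInstance : QuasiCompact q).isCompact_preimage O₁ ho₁ hc₁
  have h₂ := (inferInstance : QuasiCompact q).isCompact_preimage O₂ ho₂ hc₂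
  have h := QuasiSeparatedSpace.inter_isCompact _ _ (ho₁.preimage q.continuous) h₁ (ho₂.preimage q.continuous) h₂
  rw [← Set.preimage_inter] at h
  rw [← Set.image_preimage_eq (O₁ ∩ O₂) q.surjective]
  exact h.image q.continuous

variable {X S : Scheme.{u}} {g : X ⟶ S} (D : SchDD g)

/-- The transition map between base changes. -/
abbrev ptMap {S₂ S₁ : Scheme.{u}} {s' : S₂ ⟶ S} {s : S₁ ⟶ S} (x : S₂ ⟶ S₁) (hs : x ≫ s = s') :
    Pt D s' ⟶ Pt D s :=
  pullback.lift (f := D.obj.hom ≫ g) (g := s) (pullback.fst _ _) (pullback.snd _ _ ≫ x)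
    (by rw [Category.assoc, hs]; exact pullback.condition)

theorem isPullback_ptMap {S₂ S₁ : Scheme.{u}} {s' : S₂ ⟶ S} {s : S₁ ⟶ S} (x : S₂ ⟶ S₁) (hs : x ≫ s = s') :
    IsPullback (ptMap D x hs) (pullback.snd _ _) (pullback.snd (D.obj.hom ≫ g) s) x := by
  refine IsPullback.of_right ?_ (pullback.lift_snd _ _ _) (IsPullback.of_hasPullback (D.obj.hom ≫ g) s)
  rw [pullback.lift_fst, hs]
  exact IsPullback.of_hasPullback _ _

variable {D}

/-- Being a cartesian quotient after base change, in terms of the comparison map. -/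
theorem isPullback_iff_isIso {Dk S₂ : Scheme.{u}} {sk : Dk ⟶ S} {Z : Scheme.{u}} (vk : Z ⟶ Dk)
    (qk : Pt D sk ⟶ Z) (hqk : qk ≫ vk = pullback.snd _ _) (x : S₂ ⟶ Dk) {s' : S₂ ⟶ S} (hs : x ≫ sk = s')
    {U₂ : Scheme.{u}} {m : U₂ ⟶ Z} {v₂ : U₂ ⟶ S₂} (hU : IsPullback m v₂ vk x) (q₂ : Pt D s' ⟶ U₂)
    (h₁ : q₂ ≫ m = ptMap D x hs ≫ qk) (h₂ : q₂ ≫ v₂ = pullback.snd _ _) :
    IsPullback q₂ (pullback.fst _ _ ≫ D.obj.hom) (v₂ ≫ s') g ↔
      IsIso (pullback.snd (pullback.lift (f := vk ≫ sk) (g := g) qk (pullback.fst _ _ ≫ D.obj.hom)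
        (by rw [reassoc_of% hqk, Category.assoc]; exact pullback.condition.symm))
        (pullback.fst (pullback.fst (vk ≫ sk) g ≫ vk) x)) := by
  let lk : Pt D sk ⟶ pullback (vk ≫ sk) g := pullback.lift qk (pullback.fst _ _ ≫ D.obj.hom)
    (by rw [reassoc_of% hqk, Category.assoc]; exact pullback.condition.symm)
  let cQ := pullback.fst (vk ≫ sk) g ≫ vk
  let Q₂ := pullback (v₂ ≫ s') g
  let l₂ : Pt D s' ⟶ Q₂ := pullback.lift q₂ (pullback.fst _ _ ≫ D.obj.hom)
    (by rw [reassoc_of% h₂, Category.assoc]; exact pullback.condition.symm)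
  have hmw : m ≫ vk ≫ sk = v₂ ≫ s' := by rw [reassoc_of% hU.w, hs]
  let r : Q₂ ⟶ pullback (vk ≫ sk) g := pullback.lift (pullback.fst _ _ ≫ m) (pullback.snd _ _)
    (by rw [Category.assoc, hmw]; exact pullback.condition)
  have hr : IsPullback r (pullback.fst _ _) (pullback.fst (vk ≫ sk) g) m := by
    refine IsPullback.of_right ?_ (pullback.lift_fst _ _ _) (IsPullback.of_hasPullback (vk ≫ sk) g).flip
    rw [pullback.lift_snd, hmw]
    exact (IsPullback.of_hasPullback _ _).flip
  have sq₁ : IsPullback r (pullback.fst _ _ ≫ v₂) cQ x := hr.paste_vert hU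
  have hl : ptMap D x hs ≫ lk = l₂ ≫ r := by
    apply pullback.hom_ext
    · simp [lk, l₂, r, h₁]
    · simp [lk, l₂, r, ptMap]
  have sq₂ : IsPullback (ptMap D x hs) l₂ lk r := by
    refine IsPullback.of_bot ?_ hl sq₁
    rw [show l₂ ≫ pullback.fst _ _ ≫ v₂ = pullback.snd _ _ by simp [l₂, h₂],
      show lk ≫ cQ = pullback.snd _ _ by simp [lk, cQ, hqk]]
    exact isPullback_ptMap D x hs
  let e := sq₁.isoPullback
  have sq₃ : IsPullback (ptMap D x hs) (l₂ ≫ e.hom) lk (pullback.fst cQ x) :=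
    sq₂.of_iso (Iso.refl _) (Iso.refl _) e (Iso.refl _) (by simp) (by simp) (by simp) (by simp [e])
  have key : IsIso (pullback.snd lk (pullback.fst cQ x)) ↔ IsIso l₂ := by
    constructor
    · intro h
      haveI : IsIso (sq₃.isoPullback.hom ≫ pullback.snd lk (pullback.fst cQ x)) := inferInstance
      rw [sq₃.isoPullback_hom_snd] at this
      exact IsIso.of_isIso_comp_right l₂ e.hom
    · intro h
      rw [← sq₃.isoPullback_inv_snd]
      infer_instance
  refine Iff.trans ?_ key.symm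
  constructor
  · intro h
    have : l₂ = h.isoPullback.hom := by apply pullback.hom_ext <;> simp [l₂]
    rw [this]; infer_instance
  · intro h
    exact (IsPullback.of_hasPullback (v₂ ≫ s') g).of_iso (asIso l₂).symm (Iso.refl _) (Iso.refl _) (Iso.refl _)
      (by simp [l₂]) (by simp [l₂]) (by simp) (by simp)

variable {I : Type u} [SmallCategory I] [IsCofiltered I] {W₀ : Scheme.{u}} (A : Sys I W₀) (s₀ : W₀ ⟶ S)

/-- A model of the quotient over a stage gives a quotient over a later stage. -/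
theorem hasEt_of_model [CompactSpace W₀] [QuasiSeparatedSpace W₀]
    [LocallyOfFinitePresentation g] [QuasiCompact g] [QuasiSeparated g]
    [LocallyOfFinitePresentation D.obj.hom] [QuasiCompact D.obj.hom] [QuasiSeparated D.obj.hom]
    {k : I} {Z : Scheme.{u}} (vk : Z ⟶ A.D.obj k) [LocallyOfFinitePresentation vk] [QuasiCompact vk]
    [QuasiSeparated vk] (qk : Pt D (A.t k ≫ s₀) ⟶ Z) (hqk : qk ≫ vk = pullback.snd _ _)
    {U : Scheme.{u}} {v : U ⟶ A.c.pt} [Etale v] {m : U ⟶ Z} (hU : IsPullback m v vk (A.c.π.app k))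
    {q : Pt D (A.s ≫ s₀) ⟶ U} (hq : QAt D (A.s ≫ s₀) v q)
    (hm : q ≫ m = ptMap D (A.c.π.app k) (by rw [← Category.assoc, A.hs]) ≫ qk) :
    ∃ i, HasEt D (A.t i ≫ s₀) := by
  haveI : ∀ (i j : I) (f : i ⟶ j), IsAffineHom (A.D.map f) := fun _ _ f => A.affine_map f
  haveI := A.compactSpace_obj k
  haveI := A.quasiSeparatedSpace_obj k
  let B := restart A k
  let sk := A.t k ≫ s₀
  let π := D.obj.hom
  haveI : CompactSpace Z := QuasiCompact.compactSpace_of_compactSpace vk
  have hBs : B.s = A.c.π.app k := rfl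
  -- étale at a stage
  have hlimU : ∀ (P : MorphismProperty Scheme.{u}) [P.IsStableUnderBaseChange], P v → AtLim B vk P :=
    fun P _ h => by
      change P (pullback.snd vk (A.c.π.app k))
      rw [← hU.isoPullback_inv_snd, MorphismProperty.cancel_left_of_respectsIso P]
      exact h
  obtain ⟨φ₁, h₁⟩ := exists_at_formallyUnramified B vk (hlimU @FormallyUnramified inferInstance)
  obtain ⟨φ₂, h₂⟩ := exists_at_flat B vk (hlimU @Flat inferInstance)
  -- invariance at a stage
  let V₂ := pullback (π ≫ g) g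
  let fV : V₂ ⟶ D.obj.left := pullback.fst _ _
  have hV₂ : (fV ≫ π) ≫ g = pullback.snd (π ≫ g) g ≫ g := by
    rw [Category.assoc]; exact pullback.condition
  let gV : V₂ ⟶ D.obj.left := (D.φ (fV ≫ π) (pullback.snd (π ≫ g) g) hV₂ ⟨fV, rfl⟩).1
  have hgV : gV ≫ π = pullback.snd (π ≫ g) g := (D.φ (fV ≫ π) (pullback.snd (π ≫ g) g) hV₂ ⟨fV, rfl⟩).2
  have rV : Rel D fV gV := rel_φ hV₂ ⟨fV, rfl⟩
  haveI : QuasiCompact (π ≫ g) := inferInstance
  haveI : QuasiSeparated (π ≫ g) := inferInstance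
  haveI : QuasiCompact fV := inferInstanceAs (QuasiCompact (pullback.fst (π ≫ g) g))
  haveI : QuasiSeparated fV := inferInstanceAs (QuasiSeparated (pullback.fst (π ≫ g) g))
  let αR := fV ≫ π ≫ g
  let Rk := pullback αR sk
  let xi : Rk ⟶ A.D.obj k := pullback.snd αR sk
  haveI : CompactSpace Rk := QuasiCompact.compactSpace_of_compactSpace xi
  haveI : QuasiSeparatedSpace Rk := quasiSeparatedSpace_of_quasiSeparated xi
  let Ak : Rk ⟶ Pt D sk := pullback.lift (pullback.fst αR sk ≫ fV) (pullback.snd αR sk)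
    (by rw [Category.assoc]; exact pullback.condition)
  let Bk : Rk ⟶ Pt D sk := pullback.lift (pullback.fst αR sk ≫ gV) (pullback.snd αR sk)
    (by
      rw [Category.assoc, ← Category.assoc gV, hgV, ← hV₂, Category.assoc]
      exact pullback.condition)
  let Rlim := pullback αR (A.s ≫ s₀)
  let qX : Rlim ⟶ Rk := pullback.lift (pullback.fst _ _) (pullback.snd _ _ ≫ A.c.π.app k)
    (by rw [Category.assoc, ← Category.assoc (A.c.π.app k), A.hs]; exact pullback.condition)
  have hX : IsPullback qX (pullback.snd αR (A.s ≫ s₀)) xi (A.c.π.app k) := by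
    refine IsPullback.of_right ?_ (pullback.lift_snd _ _ _) (IsPullback.of_hasPullback αR sk)
    rw [pullback.lift_fst, ← Category.assoc, A.hs]
    exact IsPullback.of_hasPullback _ _
  let Alim : Rlim ⟶ Pt D (A.s ≫ s₀) := pullback.lift (pullback.fst _ _ ≫ fV) (pullback.snd _ _)
    (by rw [Category.assoc]; exact pullback.condition)
  let Blim : Rlim ⟶ Pt D (A.s ≫ s₀) := pullback.lift (pullback.fst _ _ ≫ gV) (pullback.snd _ _)
    (by
      rw [Category.assoc, ← Category.assoc gV, hgV, ← hV₂, Category.assoc]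
      exact pullback.condition)
  have hAB : Alim ≫ q = Blim ≫ q := hq.rel _ _ (by simp [Alim, Blim]) (by simpa [Alim, Blim] using rV.comp _)
  have hAk : qX ≫ Ak = Alim ≫ ptMap D (A.c.π.app k) (by rw [← Category.assoc, A.hs]) := by
    apply pullback.hom_ext <;> simp [qX, Ak, Alim, ptMap]
  have hBk : qX ≫ Bk = Blim ≫ ptMap D (A.c.π.app k) (by rw [← Category.assoc, A.hs]) := by
    apply pullback.hom_ext <;> simp [qX, Bk, Blim, ptMap]
  obtain ⟨l₃, a₃, e₃⟩ := DescFP.hom_eq_eventually A.hc xi vk qX (pullback.snd αR (A.s ≫ s₀)) hX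
    (Ak ≫ qk) (Bk ≫ qk) (by simp [Ak, xi, hqk, sk]) (by simp [Bk, xi, hqk, sk])
    (by rw [reassoc_of% hAk, reassoc_of% hBk, ← hm, reassoc_of% hAB])
  -- cartesian at a stage
  let Qk := pullback (vk ≫ sk) g
  let cQ : Qk ⟶ A.D.obj k := pullback.fst _ _ ≫ vk
  let lk : Pt D sk ⟶ Qk := pullback.lift qk (pullback.fst _ _ ≫ π)
    (by rw [reassoc_of% hqk, Category.assoc]; exact pullback.condition.symm)
  have hlk : lk ≫ cQ = pullback.snd _ _ := by simp [lk, cQ, hqk, sk]
  haveI : LocallyOfFinitePresentation (π ≫ g) := inferInstance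
  haveI : CompactSpace Qk := QuasiCompact.compactSpace_of_compactSpace cQ
  haveI : LocallyOfFinitePresentation lk := by
    haveI : LocallyOfFinitePresentation (lk ≫ cQ) :=
      hlk ▸ (inferInstance : LocallyOfFinitePresentation (pullback.snd (π ≫ g) sk))
    exact AlgSpLib.lfp_of_comp_lft lk cQ
  haveI : QuasiCompact lk := by
    haveI : QuasiCompact (lk ≫ cQ) := hlk ▸ (inferInstance : QuasiCompact (pullback.snd (π ≫ g) sk))
    exact QuasiCompact.of_comp lk cQ
  haveI : QuasiSeparated lk := by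
    haveI : QuasiSeparated (lk ≫ cQ) := hlk ▸ (inferInstance : QuasiSeparated (pullback.snd (π ≫ g) sk))
    exact QuasiSeparated.of_comp lk cQ
  obtain ⟨φ₄, h₄⟩ := exists_at_isIso (pb B cQ) lk ((isPullback_iff_isIso vk qk hqk (A.c.π.app k)
    (by rw [← Category.assoc, A.hs]) hU q hm hq.w).1 hq.isPullback)
  -- a common stage
  classical
  obtain ⟨φ, hφ⟩ := IsCofiltered.inf_objs_exists ({φ₁, φ₂, Over.mk a₃, φ₄} : Finset (Over k))
  have to₁ := (hφ (X := φ₁) (by simp)).some
  have to₂ := (hφ (X := φ₂) (by simp)).some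
  have to₃ := (hφ (X := Over.mk a₃) (by simp)).some
  have to₄ := (hφ (X := φ₄) (by simp)).some
  have H₁ : FormallyUnramified (pullback.snd vk (B.t φ)) := at_of_hom B vk to₁ h₁
  have H₂ : Flat (pullback.snd vk (B.t φ)) := at_of_hom B vk to₂ h₂
  have H₄ : IsIso (pullback.snd lk (pullback.fst cQ (B.t φ))) :=
    at_of_hom (P := MorphismProperty.isomorphisms Scheme) (pb B cQ) lk to₄ h₄
  let y := A.D.map φ.hom
  have hy : y ≫ sk = A.t φ.left ≫ s₀ := by rw [← Category.assoc, A.w]
  have hB : B.t φ = y := rfl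
  let vl := pullback.snd vk y
  haveI : FormallyUnramified vl := H₁
  haveI : Flat vl := H₂
  haveI : Etale vl := Etale.of_formallyUnramified_of_flat vl
  let ql : Pt D (A.t φ.left ≫ s₀) ⟶ pullback vk y := pullback.lift (ptMap D y hy ≫ qk) (pullback.snd _ _)
    (by rw [Category.assoc, hqk]; exact pullback.lift_snd _ _ _)
  refine ⟨φ.left, _, vl, ql, inferInstance, pullback.lift_snd _ _ _, fun T a b hs r => ?_, ?_⟩
  · let fa := a ≫ pullback.fst _ _
    let fb := b ≫ pullback.fst _ _
    let τ₀ : T ⟶ V₂ := pullback.lift fa (fb ≫ π)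
      (by have := r.1; simp only [Category.assoc] at this ⊢; exact this)
    have hτA : τ₀ ≫ fV = fa := pullback.lift_fst _ _ _
    have hτB : τ₀ ≫ gV = fb := by
      have := (rV.comp τ₀).φ_eq (x₀ := fa ≫ π) (x₁ := fb ≫ π) (by rw [hτA])
        (by rw [Category.assoc, hgV, pullback.lift_snd]) (by have := r.1; simp only [Category.assoc] at this ⊢; exact this)
      exact this.symm.trans ((φ_congr rfl rfl _ _ _ _ hτA).trans
        (r.φ_eq rfl rfl (by have := r.1; simp only [Category.assoc] at this ⊢; exact this)))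
    let τ : T ⟶ Rk := pullback.lift τ₀ (a ≫ pullback.snd _ _ ≫ y) (by
      rw [← Category.assoc τ₀, hτA]
      simp only [fa, Category.assoc, hy]
      rw [← pullback.condition])
    let τ' : T ⟶ pullback xi (A.D.map to₃.left ≫ A.D.map a₃) :=
      pullback.lift τ (a ≫ pullback.snd _ _) (by
        rw [← A.D.map_comp, show to₃.left ≫ a₃ = φ.hom from Over.w to₃, pullback.lift_snd, Category.assoc])
    let μ : pullback xi (A.D.map to₃.left ≫ A.D.map a₃) ⟶ pullback xi (A.D.map a₃) :=
      pullback.lift (pullback.fst _ _) (pullback.snd _ _ ≫ A.D.map to₃.left)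
        (by rw [Category.assoc]; exact pullback.condition)
    have hA : τ ≫ Ak = a ≫ ptMap D y hy := by
      apply pullback.hom_ext
      · simp [τ, Ak, ptMap, hτA, fa]
      · simp [τ, Ak, ptMap]
    have hB' : τ ≫ Bk = b ≫ ptMap D y hy := by
      apply pullback.hom_ext
      · simp [τ, Bk, ptMap, hτB, fb]
      · simp [τ, Bk, ptMap, reassoc_of% hs]
    have e := congrArg (τ' ≫ μ ≫ ·) e₃
    simp only [μ, τ', pullback.lift_fst_assoc] at e
    rw [reassoc_of% hA, reassoc_of% hB'] at e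
    apply pullback.hom_ext
    · simpa [ql] using e
    · simpa [ql] using hs
  · exact (isPullback_iff_isIso vk qk hqk y hy (IsPullback.of_hasPullback vk y) ql (pullback.lift_fst _ _ _)
      (pullback.lift_snd _ _ _)).2 H₄

/-- An étale quotient over a limit comes from a stage. -/
theorem exists_hasEt_stage [CompactSpace W₀] [QuasiSeparatedSpace W₀]
    [LocallyOfFinitePresentation g] [QuasiCompact g] [QuasiSeparated g]
    [LocallyOfFinitePresentation D.obj.hom] [QuasiCompact D.obj.hom] [QuasiSeparated D.obj.hom]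
    (hg : SGA1.UnivSubmersive g) (h : HasEt D (A.s ≫ s₀)) : ∃ i, HasEt D (A.t i ≫ s₀) := by
  obtain ⟨U, v, q, hv, hq⟩ := h
  haveI : ∀ (i j : I) (f : i ⟶ j), IsAffineHom (A.D.map f) := fun _ _ f => A.affine_map f
  obtain ⟨i₀⟩ := IsCofiltered.nonempty (C := I)
  haveI := A.compactSpace_obj i₀
  haveI := A.quasiSeparatedSpace_obj i₀
  haveI : IsAffineHom A.s := by
    haveI := A.affine i₀
    rw [← A.hs i₀]
    haveI := isAffineHom_π_app A.D A.c A.hc i₀
    infer_instance
  haveI : CompactSpace A.c.pt := QuasiCompact.compactSpace_of_compactSpace A.s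
  haveI : QuasiSeparatedSpace A.c.pt := quasiSeparatedSpace_of_quasiSeparated A.s
  haveI := surjective_of_univSubmersive (hq.univSubmersive hg)
  haveI : QuasiCompact q := MorphismProperty.of_isPullback (P := @QuasiCompact) hq.isPullback.flip inferInstance
  haveI : QuasiCompact (q ≫ v) := by rw [hq.w]; infer_instance
  haveI : QuasiCompact v := quasiCompact_of_surjective_comp q v
  haveI : QuasiSeparatedSpace (Pt D (A.s ≫ s₀)) :=
    quasiSeparatedSpace_of_quasiSeparated (pullback.snd (D.obj.hom ≫ g) (A.s ≫ s₀))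
  haveI : QuasiSeparatedSpace U := quasiSeparatedSpace_of_surjective q
  haveI : QuasiSeparated v := QuasiSeparated.of_quasiSeparatedSpace v
  haveI : ∀ i, CompactSpace (A.D.obj i) := A.compactSpace_obj
  haveI : ∀ i, QuasiSeparatedSpace (A.D.obj i) := A.quasiSeparatedSpace_obj
  obtain ⟨j, ⟨M⟩⟩ := DescFP.exists_model A.hc v
  haveI := M.lfp; haveI := M.qc; haveI := M.qs
  haveI := A.compactSpace_obj j
  haveI := A.quasiSeparatedSpace_obj j
  let xi := pullback.snd (D.obj.hom ≫ g) (A.t j ≫ s₀)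
  haveI : CompactSpace (Pt D (A.t j ≫ s₀)) := QuasiCompact.compactSpace_of_compactSpace xi
  haveI : QuasiSeparatedSpace (Pt D (A.t j ≫ s₀)) := quasiSeparatedSpace_of_quasiSeparated xi
  obtain ⟨k, φ, fj, sX, sY, hfj, hsX₁, hsX₂, hsY₁, hsY₂, hcomp⟩ := DescFP.exists_hom_descend A.hc xi M.p
    (ptMap D (A.c.π.app j) (by rw [← Category.assoc, A.hs])) (pullback.snd _ _) (isPullback_ptMap D _ _)
    M.g v M.sq q hq.w
  let vk := pullback.snd M.p (A.D.map φ)
  let j₀ : Pt D (A.t k ≫ s₀) ⟶ pullback xi (A.D.map φ) :=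
    (isPullback_ptMap D (A.D.map φ) (by rw [← Category.assoc, A.w])).isoPullback.hom
  have hj₀ : j₀ ≫ pullback.snd _ _ = pullback.snd _ _ := IsPullback.isoPullback_hom_snd _
  have hU : IsPullback sY v vk (A.c.π.app k) := by
    refine IsPullback.of_right ?_ hsY₂ (IsPullback.of_hasPullback M.p (A.D.map φ))
    rw [hsY₁, A.c.w]
    exact M.sq
  refine hasEt_of_model A s₀ vk (j₀ ≫ fj) (by rw [Category.assoc, hfj, hj₀]) hU hq ?_
  rw [← hcomp, ← Category.assoc _ j₀]
  congr 1
  apply pullback.hom_ext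
  · refine hsX₁.trans ?_
    refine Eq.trans ?_ (congrArg (ptMap D (A.c.π.app k) _ ≫ ·) (IsPullback.isoPullback_hom_fst _).symm |>.trans (Category.assoc _ _ _).symm)
    apply pullback.hom_ext <;> simp [ptMap]
  · rw [hsX₂, Category.assoc, hj₀]
    simp [ptMap]

end SubmDescLib
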